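import Cfsg.Agent.Lib.Spor.JFourType.OrderH.Defs
import Cfsg.Agent.Lib.Spor.JFourType.OrderT.Moved

/-!
The centraliser maps onto the stabiliser of the standard pair of points.
-/

set_option autoImplicit false
set_option maxRecDepth 100000
set_option linter.style.haveILetI false

open Cfsg Cfsg.Agent.Spor.Golay
open Cfsg.Agent.Spor.Cos.J4Sub (app mm app_mm app_xor app_zero)
open scoped Pointwise

namespace Cfsg.Agent.Spor.JFour

namespace OrderH

/-- The pair fixed with the three-group. -/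
def pairS : Finset GolayPt := {pt 23, pt 0}

theorem g0_checks : inM24 g0P = true ∧ inM24 g0iP = true ∧ comp g0P g0iP = idP ∧ valid g0iP = true ∧
    valid g0P = true ∧ Golay.get g0P 23 < 2 ∧ Golay.get g0P 0 < 2 ∧ Golay.get g0P 23 ≠ Golay.get g0P 0 ∧
    Golay.get (pk 9) 23 = 0 ∧ Golay.get (pk 9) 0 = 23 ∧ inM24 (pk 9) = true := by decide +kernel

theorem g0_inv : permOf g0iP = (permOf g0P)⁻¹ := by
  obtain ⟨-, -, h, hi, hv, -⟩ := g0_checks
  refine eq_inv_of_mul_eq_one_right ?_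
  rw [← permOf_comp hv hi, h, permOf_idP]

theorem g0_pair : permOf g0P • pairS = OrderT.pairD := by
  obtain ⟨-, -, -, -, hv, h1, h2, hne, -⟩ := g0_checks
  have e : ∀ i < 24, permOf g0P (pt i) = pt (Golay.get g0P i) := fun i hi => by
    rw [permOf_apply hv, Golay.app, idx_pt hi]
  rw [pairS, Finset.smul_finset_insert, Finset.smul_finset_singleton]
  show ({permOf g0P (pt 23), permOf g0P (pt 0)} : Finset GolayPt) = _
  rw [e 23 (by norm_num), e 0 (by norm_num), OrderT.pairD]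
  generalize Golay.get g0P 23 = a, Golay.get g0P 0 = b at h1 h2 hne
  interval_cases a <;> interval_cases b <;> first | omega | decide +kernel

theorem M22_fix {g : Equiv.Perm GolayPt} (hg : g ∈ Cfsg.Spor.M22) :
    g ∈ Cfsg.M24 ∧ g (pt 23) = pt 23 ∧ g (pt 0) = pt 0 := by
  refine ⟨hg.1.1, ?_, ?_⟩
  · rw [show pt 23 = (none : GolayPt) by decide +kernel]; exact hg.1.2
  · rw [show pt 0 = (some 0 : GolayPt) by decide +kernel]; exact hg.2

theorem mem_M22 {g : Equiv.Perm GolayPt} (hg : g ∈ Cfsg.M24) (h1 : g (pt 23) = pt 23) (h2 : g (pt 0) = pt 0) :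
    g ∈ Cfsg.Spor.M22 := by
  rw [show pt 23 = (none : GolayPt) by decide +kernel] at h1
  rw [show pt 0 = (some 0 : GolayPt) by decide +kernel] at h2
  exact ⟨⟨hg, h1⟩, h2⟩

theorem pk9_fix : permOf (pk 9) ∈ Cfsg.M24 ∧ permOf (pk 9) (pt 23) = pt 0 ∧ permOf (pk 9) (pt 0) = pt 23 := by
  obtain ⟨-, -, -, -, -, -, -, -, h1, h2, h3⟩ := g0_checks
  exact ⟨permOf_mem_M24 h3, by rw [pk_pt 9 (by norm_num), h1], by rw [pk_pt 9 (by norm_num), h2]⟩

theorem wordP_to (w : List ℕ) : permOf (permTo w) = permOf g0P * wordπ w * (permOf g0P)⁻¹ := by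
  obtain ⟨-, -, -, hi, hv, -⟩ := g0_checks
  rw [permTo, permOf_comp (valid_comp hv (wordP_valid w)) hi, permOf_comp hv (wordP_valid w), g0_inv, wordπ_eq]

end OrderH

namespace Frame

open OrderH

variable {G : Type*} [Group G] {z : G} {P : Subgroup G} {S : Setting z P} (Fr : Frame S)

/-- The permutation of an element on the standard pair's side. -/
def Lies (h : G) (σ : Equiv.Perm GolayPt) : Prop :=
  ∃ a M π, Fr.Img h a M π ∧ σ = permOf g0P * π * (permOf g0P)⁻¹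

variable {Fr} [Finite G]

theorem Pm.pair {n : G} {π : Equiv.Perm GolayPt} (h : Fr.Pm n π) : π ∈ Cfsg.M24 ∧ π • pairS = pairS := by
  obtain ⟨p1, p2, p3⟩ := pk9_fix
  rcases h with ⟨hn, rfl⟩ | ⟨c, hc, -, rfl⟩
  · obtain ⟨a, b, d⟩ := M22_fix (S.ψ_mem n hn)
    refine ⟨a, ?_⟩
    rw [pairS, Finset.smul_finset_insert, Finset.smul_finset_singleton]
    show ({S.ψ n (pt 23), S.ψ n (pt 0)} : Finset GolayPt) = _
    rw [b, d]
  · obtain ⟨a, b, d⟩ := M22_fix (S.ψ_mem c hc)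
    refine ⟨mul_mem a p1, ?_⟩
    rw [pairS, Finset.smul_finset_insert, Finset.smul_finset_singleton]
    show ({S.ψ c (permOf (pk 9) (pt 23)), S.ψ c (permOf (pk 9) (pt 0))} : Finset GolayPt) = _
    rw [p2, p3, b, d, Finset.pair_comm]

theorem Lies.unique {h : G} {σ τ : Equiv.Perm GolayPt} (h1 : Fr.Lies h σ) (h2 : Fr.Lies h τ) : σ = τ := by
  obtain ⟨a, M, π, hi, rfl⟩ := h1
  obtain ⟨b, N, ρ, hj, rfl⟩ := h2
  rw [(hi.unique hj).2.2]

theorem Lies.mul {g h : G} {σ τ : Equiv.Perm GolayPt} (h1 : Fr.Lies g σ) (h2 : Fr.Lies h τ) :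
    Fr.Lies (g * h) (σ * τ) := by
  obtain ⟨a, M, π, hi, rfl⟩ := h1
  obtain ⟨b, N, ρ, hj, rfl⟩ := h2
  exact ⟨_, _, _, hi.mul hj, by group⟩

theorem Lies.one : Fr.Lies 1 1 := ⟨0, mI, 1, Img.one, by group⟩

theorem Lies.hz {h : G} {σ : Equiv.Perm GolayPt} (h1 : Fr.Lies h σ) : h * z = z * h := by
  obtain ⟨a, M, π, hi, -⟩ := h1
  exact hi.hz

variable (Fr) in
theorem exists_lies {h : G} (hh : h * z = z * h) : ∃ σ, Fr.Lies h σ := by
  obtain ⟨a, M, π, hi⟩ := Fr.exists_img hh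
  exact ⟨_, a, M, π, hi, rfl⟩

theorem Lies.mem {h : G} {σ : Equiv.Perm GolayPt} (h1 : Fr.Lies h σ) :
    σ ∈ Cfsg.M24 ∧ σ • OrderT.pairD = OrderT.pairD := by
  obtain ⟨a, M, π, hi, rfl⟩ := h1
  obtain ⟨-, -, -, n, hn, -⟩ := hi
  obtain ⟨hm, hp⟩ := hn.pair
  obtain ⟨hg, -⟩ := g0_checks
  refine ⟨mul_mem (mul_mem (permOf_mem_M24 hg) hm) (inv_mem (permOf_mem_M24 hg)), ?_⟩
  rw [← g0_pair, smul_smul, inv_mul_cancel_right, mul_smul, hp]

theorem Lies.mem_invSet {h : G} {σ : Equiv.Perm GolayPt} (h1 : Fr.Lies h σ) (h2 : h * h = 1) :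
    σ ∈ OrderT.invSet :=
  OrderT.mem_invSet.2 ⟨h1.mem.1, ((h2 ▸ h1.mul h1 : Fr.Lies 1 (σ * σ))).unique Lies.one, h1.mem.2⟩

theorem Lies.conj {g h : G} {σ τ : Equiv.Perm GolayPt} (h1 : Fr.Lies g σ) (h2 : Fr.Lies h τ) :
    Fr.Lies (g * h * g⁻¹) (σ * τ * σ⁻¹) := by
  obtain ⟨ρ, h3⟩ := Fr.exists_lies (conj_inv_comm h1.hz)
  have e : ρ = σ⁻¹ := eq_inv_of_mul_eq_one_left ((show Fr.Lies 1 (ρ * σ) from by
    have := h3.mul h1; rwa [inv_mul_cancel] at this).unique Lies.one)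
  exact e ▸ (h1.mul h2).mul h3

variable (Fr) in
/-- Every element of the stabiliser is reached. -/
theorem lies_surj {g : Equiv.Perm GolayPt} (hm : g ∈ Cfsg.M24) (hp : g • OrderT.pairD = OrderT.pairD) :
    ∃ n, Fr.Lies n g := by
  set π := (permOf g0P)⁻¹ * g * permOf g0P with hπ
  obtain ⟨hg, -⟩ := g0_checks
  have hπm : π ∈ Cfsg.M24 := mul_mem (mul_mem (inv_mem (permOf_mem_M24 hg)) hm) (permOf_mem_M24 hg)
  have hπp : π • pairS = pairS := by
    rw [hπ, mul_smul, mul_smul, g0_pair, hp, ← g0_pair, inv_smul_smul]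
  suffices hs : ∃ n, Fr.Pm n π by
    obtain ⟨n, hn⟩ := hs
    obtain ⟨M, hM⟩ := Fr.F.toCoord.exists_rep hn.hz
    exact ⟨n, 0, M, π, img_pm hn hM, by rw [hπ]; group⟩
  obtain ⟨p1, p2, p3⟩ := pk9_fix
  have hin : π (pt 23) ∈ pairS ∧ π (pt 0) ∈ pairS := by
    constructor <;> rw [← hπp] <;> exact Finset.smul_mem_smul_finset (by simp [pairS])
  simp only [pairS, Finset.mem_insert, Finset.mem_singleton] at hin
  have hne : pt 23 ≠ pt 0 := by decide +kernel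
  rcases hin with ⟨a | a, b | b⟩
  · exact absurd (π.injective (a.trans b.symm)) hne
  · obtain ⟨c, hc, e⟩ := S.ψ_surj π (mem_M22 hπm a b)
    exact ⟨c, Or.inl ⟨hc, e⟩⟩
  · obtain ⟨c, hc, e⟩ := S.ψ_surj (π * permOf (pk 9)) (mem_M22 (mul_mem hπm p1)
      (by show π (permOf (pk 9) (pt 23)) = _; rw [p2, b]) (by show π (permOf (pk 9) (pt 0)) = _; rw [p3, a]))
    exact ⟨c * Fr.F.o, Or.inr ⟨c, hc, rfl, by rw [e, mul_assoc, pk9_sq, mul_one]⟩⟩
  · exact absurd (π.injective (a.trans b.symm)) hne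

end Frame

end Cfsg.Agent.Spor.JFour
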