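import Cfsg.Agent.Lib.Spor.JFourType.OrderH.Classes
import Cfsg.Agent.Lib.Spor.JFourType.OrderH.Lies

/-!
The elements over a permutation by vectors and matrices, and when a product has the involution as a power.
-/

set_option autoImplicit false
set_option maxRecDepth 100000
set_option linter.style.haveILetI false

open Cfsg Cfsg.Agent.Spor.Golay
open Cfsg.Agent.Spor.Cos.J4Sub (app mm app_mm app_xor app_zero)

namespace Cfsg.Agent.Spor.JFour

namespace OrderH

theorem tb_eq (m s : ℕ) : tb m s = m.testBit s := by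
  rw [tb, Nat.testBit_eq_decide_div_mod_eq, show Nat.land (Nat.shiftRight m s) 1 = (m >>> s) &&& 1 from rfl,
    Nat.and_one_is_mod, Nat.shiftRight_eq_div_pow]
  exact Bool.eq_iff_iff.2 ⟨fun h => decide_eq_true (Nat.eq_of_beq_eq_true h),
    fun h => by rw [of_decide_eq_true h]; rfl⟩

theorem app_osM (R : List ℕ) (k : ℕ) {v : ℕ} (hv : v < 4096) : app (osM R k) v = OrderT.orbSum R k v := by
  rw [osM, List.range_eq_range', OrderT.app_map (OrderT.orbSum_xor R k) 12 0 v hv, Nat.shiftLeft_zero]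

theorem keys_nil (W : ℕ → ℕ) (L H : List ℕ) : keys W L H [] = [] := rfl

theorem inner_keys (odd inn : Bool) (ul uh : ℕ) (W : ℕ → ℕ) (L H : List ℕ) : ∀ bs,
    inner odd inn ul uh (keys W L H bs) =
      (bs.map fun b => if okP odd inn ul uh (app L b) (app H b) then W b else 0).sum
  | [] => rfl
  | b :: bs => by
    have e : keys W L H (b :: bs) = bif Nat.beq (W b) 0 then keys W L H bs else (app L b, app H b, W b) :: keys W L H bs :=
      rfl
    rw [e, List.map_cons, List.sum_cons, ← inner_keys odd inn ul uh W L H bs]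
    cases hW : Nat.beq (W b) 0
    · show (bif okP odd inn ul uh (app L b) (app H b) then Nat.add (W b) _ else _) = _
      cases okP odd inn ul uh (app L b) (app H b)
      · simp; rfl
      · simp; rfl
    · rw [Nat.eq_of_beq_eq_true hW]
      simp

theorem outer_keys (odd inn : Bool) (W W' : ℕ → ℕ) (L H L' H' : List ℕ) (bs' : List ℕ) : ∀ bs,
    outer odd inn (keys W L H bs) (keys W' L' H' bs') =
      (bs.map fun b => (bs'.map fun b' =>
        W b * if okP odd inn (app L b) (app H b) (app L' b') (app H' b') then W' b' else 0).sum).sum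
  | [] => rfl
  | b :: bs => by
    have e : keys W L H (b :: bs) = bif Nat.beq (W b) 0 then keys W L H bs else (app L b, app H b, W b) :: keys W L H bs :=
      rfl
    rw [e, List.map_cons, List.sum_cons, ← outer_keys odd inn W W' L H L' H' bs' bs]
    cases hW : Nat.beq (W b) 0
    · show Nat.add (Nat.mul (W b) (inner odd inn (app L b) (app H b) (keys W' L' H' bs'))) _ = _
      rw [inner_keys, List.sum_map_mul_left]
      rfl
    · rw [Nat.eq_of_beq_eq_true hW]
      simp

end OrderH

namespace Frame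

open OrderH

variable {G : Type*} [Group G] {z : G} {P : Subgroup G} {S : Setting z P} {Fr : Frame S} [Finite G]

theorem elem_lift {w : List ℕ} (hw : wordsOK w = true) {j : ℕ} (hj : j < 3) :
    ∃ n, Fr.Pm n (wordπ w) ∧ Fr.F.Rep n (liftM w j) := by
  obtain ⟨h1, h2⟩ := evG_ok (Fr := Fr) hw
  have ht : Fr.Pm (Fr.F.R.t ^ j) 1 := Or.inl ⟨pow_mem Fr.F.toCoord.t_mem j,
    by rw [S.ψ_pow Fr.F.toCoord.t_mem, Fr.F.toCoord.t_ψ, one_pow]⟩
  exact ⟨_, by simpa using ht.mul h1, Fr.F.toCoord.rep_mul (Fr.F.toCoord.rep_tpow hj) h2⟩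

theorem liftM_inj (Fr : Frame S) {w : List ℕ} (hw : wordsOK w = true) {i j : ℕ} (hi : i < 3) (hj : j < 3)
    (h : liftM w i = liftM w j) : i = j := by
  obtain ⟨h1, h2⟩ := evG_ok (Fr := Fr) hw
  obtain ⟨K, hK⟩ := Fr.F.toCoord.exists_rep (conj_inv_comm h1.hz)
  have e : mm (evG w) K = mI := Fr.F.toCoord.rep_unique (by simpa using Fr.F.toCoord.rep_mul h2 hK)
    Fr.F.toCoord.rep_one
  have e' : ∀ k, mTp k = mm (liftM w k) K := fun k => by
    show _ = mm (mm (mTp k) (evG w)) K; rw [mm_assoc, e, mm_mI (okMat_mTp k)]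
  have h3 : mTp i = mTp j := by rw [e' i, e' j, h]
  interval_cases i <;> interval_cases j <;> first | rfl | exact absurd h3 (by decide +kernel)

/-- What a correct lift says. -/
theorem lift_spec' (Fr : Frame S) {w : List ℕ} {E : List Lf} (hE : liftsOK w E = true) {j : ℕ} (hj : j < 3) :
    okMat (liftM w j) = true ∧
    ((E.getD j (4, [], [])).1 < 4 →
      mm (liftM w j) (liftM w j) = mI ∧ witOK (liftM w j) (E.getD j (4, [], [])).1 (E.getD j (4, [], [])).2.1 = true ∧
        wordsOK (E.getD j (4, [], [])).2.2 = true ∧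
        (∀ a < 4096, app (evG (E.getD j (4, [], [])).2.2) (app (evG (E.getD j (4, [], [])).2.1) a) = a) ∧
        ∀ a < 4096, app (evG (E.getD j (4, [], [])).2.1) (app (evG (E.getD j (4, [], [])).2.2) a) = a) ∧
    (¬ (E.getD j (4, [], [])).1 < 4 → mm (liftM w j) (liftM w j) ≠ mI) := by
  rw [liftsOK, Bool.and_eq_true] at hE
  obtain ⟨hw, hl⟩ := hE
  obtain ⟨n, -, hn⟩ := elem_lift (Fr := Fr) (w := w) hw hj
  have h := List.all_eq_true.1 hl j (List.mem_range.2 hj)
  rw [liftOK] at h
  refine ⟨hn.ok, fun h4 => ?_, fun h4 => ?_⟩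
  · rw [if_pos h4] at h
    simp only [Bool.and_eq_true, beq_iff_eq] at h
    obtain ⟨⟨⟨⟨e1, e2⟩, e3⟩, e4⟩, e5⟩ := h
    exact ⟨e1, e2, e3, fun a ha => by rw [← app_mm, e4, app_mI ha], fun a ha => by rw [← app_mm, e5, app_mI ha]⟩
  · rw [if_neg h4, bne_iff_ne] at h
    exact h

/-- An element with a given lift has the permutation of the word. -/
theorem lift_perm {w : List ℕ} (hw : wordsOK w = true) {j : ℕ} (hj : j < 3) {h : G} {a : ℕ}
    {π : Equiv.Perm GolayPt} (hi : Fr.Img h a (liftM w j) π) : π = wordπ w := by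
  obtain ⟨n, hn, hR⟩ := elem_lift (Fr := Fr) hw hj
  obtain ⟨e, -, -, he⟩ := exists_core (Fr := Fr) hi.1
  have h2 := he.mul (img_pm hn hR)
  rw [app_zero, Nat.xor_zero, mI_mm hR.ok, one_mul] at h2
  exact (hi.eq_or h2).2

theorem zp_eq_one {b : Bool} (S : Setting z P) (h : zp z b = 1) : b = false := by
  cases b
  · rfl
  · exact absurd h S.ext.ne

/-- An involution over a word lies in one of the cells. -/
theorem lift_cover (K : Fr.Kap) {w : List ℕ} {E : List Lf} (hE : liftsOK w E = true) {h : G}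
    (hl : Fr.Lies h (permOf (permTo w))) (h2 : h * h = 1) :
    ∃ j < 3, (E.getD j (4, [], [])).1 < 4 ∧ ∃ b ∈ invR (E.getD j (4, [], [])).1,
      ∃ π, Fr.Img h (app (evG (E.getD j (4, [], [])).2.2) b) (liftM w j) π := by
  obtain ⟨a, M, π, hi, eσ⟩ := hl
  have eπ : π = wordπ w := by
    rw [wordP_to] at eσ
    exact (mul_left_cancel (mul_right_cancel eσ)).symm
  subst eπ
  have hw : wordsOK w = true := by
    simp only [liftsOK, Bool.and_eq_true] at hE; exact hE.1
  obtain ⟨ha, e, he, n, hn, hM, heq, -⟩ := id hi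
  obtain ⟨j, hj, rfl⟩ := hn.lifts hM fun k hk => of_decide_eq_true (List.all_eq_true.1 hw k hk)
  obtain ⟨e1, e2, -⟩ := (hi.mul hi).unique (h2 ▸ Img.one)
  obtain ⟨-, hs, hn'⟩ := lift_spec' Fr hE hj
  by_cases h4 : (E.getD j (4, [], [])).1 < 4
  · obtain ⟨-, hwit, hGi, hback, -⟩ := hs h4
    set ev := E.getD j (4, [], []) with hev
    have hwit' := hwit
    simp only [witOK, Bool.and_eq_true, decide_eq_true_eq, beq_iff_eq] at hwit'
    obtain ⟨⟨hg, hr⟩, heq'⟩ := hwit'
    obtain ⟨-, hR⟩ := evG_ok (Fr := Fr) hg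
    have hfix : app (liftM w j) a = a := (Nat.xor_eq_zero_iff.1 e1).symm
    refine ⟨j, hj, h4, app (evG ev.2.1) a, (mem_invR hr).2 ⟨app_lt_of_ok hR.ok a, ?_, fun h2' => ?_⟩, wordπ w, ?_⟩
    · rw [← app_mm, ← heq', app_mm]
      exact congrArg _ hfix
    · have hsq := sq_wit K hwit hi hfix
      rw [h2] at hsq
      have := zp_eq_one S hsq.symm
      rw [decide_eq_true h2', Bool.true_and] at this
      rw [Fr.F.toCoord.rep_qv hR ha]
      exact this
    · rw [hback a ha]; exact hi
  · exact absurd e2 (hn' h4)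

theorem conj_sq {x h : G} (hx : x * x = 1) (hc : IsConj x h) : h * h = 1 := by
  obtain ⟨g, e⟩ := isConj_iff.1 hc
  rw [← e, show g * x * g⁻¹ * (g * x * g⁻¹) = g * (x * x) * g⁻¹ by group, hx, mul_one, mul_inv_cancel]

/-- When the involution is a power of a product. -/
theorem good_iff (K : Fr.Kap) (hfus : Fr.Classes) {u v : G} {a a' : ℕ} {M N : List ℕ} {π ρ : Equiv.Perm GolayPt}
    (hu : Fr.Img u a M π) (hv : Fr.Img v a' N ρ) (cu : IsConj z u) (cv : IsConj (Fr.Av 2) v) {e : ℕ × ℕ × List ℕ}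
    (he : infoOK (mm M N) e = true) :
    z ∈ Subgroup.zpowers (u * v) ↔ okP (Nat.beq (e.1 % 2) 1) (Nat.blt e.2.1 2) (app (osM (mm M N) e.1) a)
      (app (osM (mm M N) (e.1 / 2)) a) (app (osM (mm M N) e.1) (app M a'))
      (app (osM (mm M N) (e.1 / 2)) (app M a')) = true := by
  obtain ⟨k, rr, g⟩ := e
  simp only [infoOK, Bool.and_eq_true, decide_eq_true_eq, beq_iff_eq, List.all_eq_true, List.mem_range,
    Bool.or_eq_true, bne_iff_ne] at he
  obtain ⟨⟨⟨hk, hpk⟩, hmin⟩, hwit⟩ := he
  have hu2 : u * u = 1 := conj_sq S.zz cu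
  have hv2 : v * v = 1 := conj_sq (Fr.Av_sq (by norm_num)) cv
  set R := mm M N with hR
  set w := u * v with hw
  set c := a ^^^ app M a' with hc
  have hi : Fr.Img w c R (π * ρ) := hu.mul hv
  have hMa' : app M a' < 4096 := app_lt_of_ok hu.ok a'
  have hz : w * z = z * w := hi.hz
  -- orbit sums
  set sL := OrderT.orbSum R k c with hsL
  set sH := OrderT.orbSum R (k / 2) c with hsH
  have eL : app (osM R k) a ^^^ app (osM R k) (app M a') = sL := by rw [← app_xor, app_osM _ _ hi.1]
  have eH : app (osM R (k / 2)) a ^^^ app (osM R (k / 2)) (app M a') = sH := by rw [← app_xor, app_osM _ _ hi.1]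
  have hik := hi.pow k
  rw [hpk] at hik
  obtain ⟨hE, hrep, -⟩ := hik.mem_core
  set x := w ^ k with hx
  have hxx : x * x = zp z (qv sL) := by
    rw [S.q_sq x hE, hrep, Fr.F.toCoord.form _ hik.1, Coord.pw_zb]
  -- membership in terms of the power
  have hper : ∀ j : ℕ, w ^ j ∈ twoCoreOfCentralizer z → k ∣ j := by
    intro j hj
    by_contra hnd
    have hr : j % k < k := Nat.mod_lt _ hk
    rcases hmin _ hr with h0 | h0
    · exact hnd (Nat.dvd_of_mod_eq_zero h0)
    refine h0 ((hi.pow (j % k)).unique (img_core (Fr := Fr) ?_ (hi.pow (j % k)).1 ?_)).2.1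
    · have : w ^ j = w ^ (j % k) * x ^ (j / k) := by rw [hx, ← pow_mul, ← pow_add, Nat.mod_add_div]
      rw [this] at hj
      exact (Subgroup.mul_mem_cancel_right _ (pow_mem hE _)).1 hj
    · obtain ⟨-, f, hf, n, hn, hM', eq, ef⟩ := hi.pow (j % k)
      have hin : w ^ (j % k) ∈ twoCoreOfCentralizer z := by
        have : w ^ j = w ^ (j % k) * x ^ (j / k) := by rw [hx, ← pow_mul, ← pow_add, Nat.mod_add_div]
        rw [this] at hj
        exact (Subgroup.mul_mem_cancel_right _ (pow_mem hE _)).1 hj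
      have hnE : n ∈ twoCoreOfCentralizer z := by
        have : n = f⁻¹ * w ^ (j % k) := by rw [eq, inv_mul_cancel_left]
        rw [this]; exact mul_mem (inv_mem hf) hin
      rcases (hn.ker (S.act_eq_one hn.hz hnE)).1 with rfl | rfl
      · rw [eq, mul_one, ef]
      · rw [eq, S.rep_mul_z hf, ef]
  have key : z ∈ Subgroup.zpowers w ↔ (x = z ∨ x * x = z) := by
    constructor
    · intro h
      obtain ⟨j, hj⟩ := (isOfFinOrder_of_finite w).mem_powers_iff_mem_zpowers.2 h
      have hj' : w ^ j = z := hj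
      obtain ⟨q, rfl⟩ := hper j (hj' ▸ S.ext.mem)
      rw [pow_mul, ← hx] at hj'
      rcases Nat.even_or_odd' q with ⟨q', rfl | rfl⟩
      · right
        rw [pow_mul, pow_two] at hj'
        rw [hxx] at hj' ⊢
        cases hq : qv sL
        · rw [hq] at hj'
          simp [zp] at hj'
          exact absurd hj'.symm S.ext.ne
        · rfl
      · rw [pow_succ, pow_mul, pow_two, hxx] at hj'
        cases hq : qv sL
        · left
          rw [hq] at hj'
          simpa [zp] using hj'
        · right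
          rw [hxx, hq]; rfl
    · rintro (h | h) <;> rw [← h]
      · exact pow_mem (Subgroup.mem_zpowers w) k
      · exact mul_mem (pow_mem (Subgroup.mem_zpowers w) k) (pow_mem (Subgroup.mem_zpowers w) k)
  rw [key, hxx, okP, tb_eq, tb_eq, show Nat.xor (app (osM R (k / 2)) a) (app (osM R (k / 2)) (app M a')) = sH from eH,
    show Nat.xor (app (osM R k) a) (app (osM R k) (app M a')) = sL from eL, qTab_eq hik.1, qTab_eq (hi.pow _).1]
  have hzp : ∀ b, zp z b = z ↔ b = true := fun b => by cases b <;> simp [zp, Ne.symm S.ext.ne]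
  rw [hzp]
  by_cases hL : sL = 0
  · have hq0 : qv sL = false := by rw [hL]; rfl
    have hbeq : Nat.beq (app (osM R k) a) (app (osM R k) (app M a')) = true := by
      rw [Nat.xor_eq_zero_iff.1 (eL.trans hL)]; exact Nat.beq_refl _
    rw [hbeq, hq0, cond_true]
    simp only [Bool.false_eq_true, or_false, Bool.or_eq_true, Bool.and_eq_true]
    have hcases : x = 1 ∨ x = z := (S.rep_zero x hE).1 (by rw [hrep, show OrderT.orbSum R k c = 0 from hL, Fr.F.toCoord.zero'])
    by_cases hodd : k % 2 = 1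
    · simp only [hodd, show Nat.beq 1 1 = true from rfl, true_or, iff_true]
      refine hcases.resolve_left fun h1 => ?_
      obtain ⟨m, rfl⟩ : ∃ m, k = 2 * m + 1 := ⟨k / 2, by omega⟩
      have hvu : v * u * v = v * (u * v) := by group
      have e1 : w ^ m * u * (w ^ m)⁻¹ = v := by
        have hinv : u * (w ^ m)⁻¹ = w ^ m * u := by
          have h := S3313.conj_involution_product u v hu2 hv2
          rw [← hw] at h
          have h5 : u * w ^ m * u⁻¹ = (w ^ m)⁻¹ := by rw [← conj_pow, h, inv_pow]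
          rw [← mul_inv_eq_iff_eq_mul, show u * (w ^ m)⁻¹ * u⁻¹ = (u * w ^ m * u⁻¹)⁻¹ by group, h5, inv_inv]
        rw [mul_assoc, hinv, ← mul_assoc, ← pow_add, ← two_mul]
        have e : w ^ (2 * m) = w⁻¹ := eq_inv_of_mul_eq_one_left (by rw [← pow_succ, ← hx, h1])
        rw [e, hw, mul_inv_rev, inv_mul_cancel_right, inv_eq_of_mul_eq_one_right hv2]
      exact Fr.not_conj_two hfus ((cu.trans (isConj_iff.2 ⟨_, e1⟩)).trans cv.symm)
    · have hwit' := hwit.resolve_left hodd
      have hb : Nat.beq (k % 2) 1 = false := by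
        rw [show k % 2 = 0 by omega]; rfl
      simp only [hb, Bool.false_eq_true, false_or]
      set y := w ^ (k / 2) with hy
      have hyy : y * y = x := by rw [hy, hx, ← pow_add]; congr 1; omega
      have hiy := hi.pow (k / 2)
      have hh := hiy.mul hiy
      rw [← hy, hyy] at hh
      obtain ⟨e1, -, -⟩ := hh.unique hik
      have hsq := sq_wit K hwit' hiy (Nat.xor_eq_zero_iff.1 (e1.trans hL)).symm
      rw [← hy, hyy] at hsq
      rw [hsq, hzp, Bool.and_eq_true]
      refine and_congr_left fun _ => ?_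
      simp [Nat.blt_eq]
  · have hbeq : Nat.beq (app (osM R k) a) (app (osM R k) (app M a')) = false := by
      rw [Bool.eq_false_iff]
      exact fun h => hL (eL ▸ Nat.xor_eq_zero_iff.2 (Nat.eq_of_beq_eq_true h))
    rw [hbeq, cond_false]
    refine ⟨fun h => h.resolve_left fun e => hL ?_, Or.inr⟩
    refine Fr.F.toCoord.inj _ hik.1 0 (by norm_num) ?_
    rw [← hrep, e, Fr.F.toCoord.zero']
    exact (S.rep_zero z S.ext.mem).2 (Or.inr rfl)

end Frame

end Cfsg.Agent.Spor.JFour
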