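import Cfsg.Agent.Lib.Spor.JFourType.OrderH.RowData
import Cfsg.Agent.Lib.Spor.JFourType.Mathieu.Cocode11

/-!
Evaluation of the tables of the four classes.
-/

set_option autoImplicit false
set_option maxRecDepth 100000
set_option Elab.async false

namespace Cfsg.Agent.Spor.JFour.OrderH

open Cfsg.Agent.Spor.Golay
open Cfsg.Agent.Spor.Cos.J4Sub (app mm)
open Cfsg.Agent.Spor.JFour.Mathieu (tMask)

/-- A conjugate by a vector. -/
def trC (M : List ℕ) (a c : ℕ) : ℕ := a ^^^ c ^^^ app M c

theorem q_table : ((List.range 4096).all fun a => qTab.testBit a == qv a) = true := by decide +kernel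

theorem inv_table : ((List.range 4).all fun r =>
    (List.range 4096).filter (fun a => app (repM r) a == a && !(decide (r < 2) && qTab.testBit a)) == invR r) =
    true := by decide +kernel

theorem low_table : ((List.range 64).all fun n => (n == 0) ||
    ((zV 0 1 0 0 n == (if tMask.testBit (2 * n) then 0 else 1) + (if tMask.testBit (2 * n + 1) then 0 else 1)) &&
      (qTab.testBit n == false))) = true ∧
    ((List.range 64).all fun n => (qTab.testBit n == false) && (zTwo1.testBit n || zOne1.testBit n) &&
      (zV 0 1 0 1 n == (if tMask.testBit (2 * n + 128) then 0 else 1) + (if tMask.testBit (2 * n + 129) then 0 else 1))) =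
    true := by decide +kernel

theorem reach_table : ((invR 0).all fun a => (a == 0) || (reach.getD 6 0).testBit a) = true ∧
    ((List.range 4096).all fun a => !((reach.getD 0 0).testBit a) || (decide (a < 64) && (a != 0))) = true ∧
    ((List.range 6).all fun i => (invR 0).all fun a => !((reach.getD (i + 1) 0).testBit a) || (a == 0) ||
      (reach.getD i 0).testBit a || (List.range 10).any fun k =>
        (reach.getD i 0).testBit (app (gM k) a) && (zTwo0.testBit a == zTwo0.testBit (app (gM k) a)) &&
          (qTab.testBit (app (gM k) a) == false)) = true := by decide +kernel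

theorem inner_table : ((invR 1).all fun a =>
    if zTwo1.testBit a || zOne1.testBit a then (List.range 16).any fun j =>
      decide (trC (repM 1) a (j <<< 8) < 64) &&
        (zTwo1.testBit a == zTwo1.testBit (trC (repM 1) a (j <<< 8))) &&
        (zOne1.testBit a == zOne1.testBit (trC (repM 1) a (j <<< 8)))
    else wordsInner.any fun g => wordsOK g && (mm (evG g) (repM 1) == mm (repM 1) (evG g)) &&
      (List.range 16).any fun j => trC (repM 1) (app (evG g) a) (j <<< 8) == innerA) = true := by decide +kernel

theorem outer_table : ((comm2.zip (invR 2)).all fun e => decide (e.1 < 4096) && (trC (repM 2) 0 e.1 == e.2)) = true ∧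
    ((comm3.zip (invR 3)).all fun e => decide (e.1 < 4096) && (trC (repM 3) 0 e.1 == e.2)) = true ∧
    comm2.length = (invR 2).length ∧ comm3.length = (invR 3).length := by decide +kernel

/-- The matrices of the two outer representatives on the elementary abelian group. -/
def outM : ℕ → List ℕ
  | 3 => mm (m11 9 mO 0) (mm (m11 6 mS 0) (mm (m11 4 mX 0) (m11 4 mX 0)))
  | _ => m11 9 mO 0

theorem outer_square : ([2, 3].all fun r => (mm (repM r) (repM r) == mI) &&
    (List.range 2048).all fun c => c ^^^ app (outM r) c != 1) = true := by decide +kernel

theorem rep_lifts : repWords.length = 4 ∧ ((List.range 4).all fun i =>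
    liftsOK (repWords.getD i []) (repLifts.getD i [])) = true := by decide +kernel

theorem two_totals : ((List.range 3).all fun x => (List.range 3).all fun y => (List.range 3).all fun w =>
    decide (tTot x y w (repLifts.getD 0 []) + 330 * tTot x y w (repLifts.getD 1 []) +
      1155 * tTot x y w (repLifts.getD 2 []) + 1386 * tTot x y w (repLifts.getD 3 []) = 838596) ==
    ((x == 0) && (y == 1) && (w == 0))) = true := by decide +kernel

end Cfsg.Agent.Spor.JFour.OrderH
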