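import Cfsg.Agent.Lib.Spor.JFourType.OrderH.ClassChecks
import Cfsg.Agent.Lib.Spor.JFourType.OrderT.Count

/-!
The classes of the involutions of the centraliser in the affine coordinates.
-/

set_option autoImplicit false
set_option maxRecDepth 100000
set_option linter.style.haveILetI false

open Cfsg Cfsg.Agent.Spor.Golay
open Cfsg.Agent.Spor.Cos.J4Sub (app mm app_mm app_xor app_zero)

namespace Cfsg.Agent.Spor.JFour.Frame

open OrderH
open Mathieu (tMask)

variable {G : Type*} [Group G] {z : G} {P : Subgroup G} {S : Setting z P} (Fr : Frame S)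

/-- The conjugates of an element with given vector and matrix. -/
noncomputable def clN (x : G) (a : ℕ) (M : List ℕ) : ℕ :=
  Nat.card {h : G // (∃ π, Fr.Img h a M π) ∧ IsConj x h}

variable {Fr} [Finite G]

omit [Finite G] in
theorem zp_ne (S : Setting z P) (h : G) : h ≠ h * z := fun e => S.ext.ne (mul_eq_left.1 e.symm)

open scoped _root_.Classical in
theorem clN_eq {h : G} {a : ℕ} {M : List ℕ} {π : Equiv.Perm GolayPt} (hi : Fr.Img h a M π) (x : G) :
    Fr.clN x a M = (if IsConj x h then 1 else 0) + if IsConj x (h * z) then 1 else 0 := by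
  haveI := Fintype.ofFinite G
  have hset : (Finset.univ.filter fun g : G => (∃ π, Fr.Img g a M π) ∧ IsConj x g) =
      ({h, h * z} : Finset G).filter fun g => IsConj x g := by
    ext g
    simp only [Finset.mem_filter, Finset.mem_univ, true_and, Finset.mem_insert, Finset.mem_singleton]
    refine and_congr_left fun _ => ⟨fun ⟨ρ, hg⟩ => (hg.eq_or hi).1, ?_⟩
    rintro (rfl | rfl)
    exacts [⟨π, hi⟩, ⟨π, hi.mul_z⟩]
  rw [clN, Nat.card_eq_fintype_card, Fintype.card_subtype, hset, Finset.filter_insert, Finset.filter_singleton]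
  by_cases h1 : IsConj x h <;> by_cases h2 : IsConj x (h * z) <;> simp only [h1, h2, ↓reduceIte] <;>
    simp [zp_ne S h]

theorem clN_le {h : G} {a : ℕ} {M : List ℕ} {π : Equiv.Perm GolayPt} (hi : Fr.Img h a M π) (x : G) :
    Fr.clN x a M ≤ 2 := by
  classical
  rw [clN_eq hi x]
  split_ifs <;> omega

theorem rep_injOn {g : G} {N : List ℕ} (hg : Fr.F.Rep g N) {u v : ℕ} (hu : u < 4096) (hv : v < 4096)
    (h : app N u = app N v) : u = v := by
  refine Fr.F.toCoord.inj u hu v hv ?_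
  have e := (hg.eq u hu).trans ((congrArg Fr.F.Φ h).trans (hg.eq v hv).symm)
  have e' := congrArg (S.act g⁻¹) e
  rwa [← Module.End.mul_apply, ← Module.End.mul_apply, S.act_inv_mul hg.hz, Module.End.one_apply,
    Module.End.one_apply] at e'

/-- Conjugation invariance. -/
theorem clN_conj {g : G} {c a : ℕ} {N M M' : List ℕ} {π : Equiv.Perm GolayPt} (hg : Fr.Img g c N π)
    (hMo : okMat M = true) (hM : okMat M' = true) (ha : a < 4096) (e : mm N M = mm M' N) (x : G) :
    Fr.clN x (c ^^^ app N a ^^^ app M' c) M' = Fr.clN x a M := by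
  refine (Nat.card_congr (Equiv.subtypeEquiv (MulAut.conj g).toEquiv fun h => ?_)).symm
  show _ ↔ (∃ π, Fr.Img (g * h * g⁻¹) _ M' π) ∧ IsConj x (g * h * g⁻¹)
  have hc : IsConj h (g * h * g⁻¹) := isConj_iff.2 ⟨g, rfl⟩
  refine and_congr ⟨fun ⟨ρ, hh⟩ => ⟨_, hg.conj hh hM e⟩, fun ⟨σ, hk⟩ => ?_⟩
    ⟨fun h' => h'.trans hc, fun h' => h'.trans hc.symm⟩
  have hhz : h * z = z * h := by
    have h1 := hk.hz
    have hgz : Commute g z := hg.hz
    have : Commute (g⁻¹ * (g * h * g⁻¹) * g) z := (hgz.inv_left.mul_left h1).mul_left hgz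
    rwa [show g⁻¹ * (g * h * g⁻¹) * g = h by group] at this
  obtain ⟨b, K, ρ, hh⟩ := Fr.exists_img hhz
  have h2 := hk.mul hg
  rw [inv_mul_cancel_right] at h2
  obtain ⟨e1, e2, -⟩ := h2.unique (hg.mul hh)
  have hN := hg.rep
  have hKM : K = M := by
    refine List.ext_getElem (by rw [okMat_length hh.ok, okMat_length hMo]) fun i i1 i2 => ?_
    rw [← List.getD_eq_getElem _ 0 i1, ← List.getD_eq_getElem _ 0 i2, ← app_two_pow i1, ← app_two_pow i2]
    refine rep_injOn hN (app_lt_of_ok hh.ok _) (app_lt_of_ok hMo _) ?_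
    rw [← app_mm, ← app_mm, ← e2, e]
  subst hKM
  have hab : b = a := by
    refine rep_injOn hN hh.1 ha ?_
    have e1' := congrArg (c ^^^ ·) e1
    simp only [Nat.xor_assoc, Nat.xor_self, Nat.xor_zero] at e1'
    rw [← Nat.xor_assoc, ← Nat.xor_assoc, Nat.xor_self, Nat.zero_xor] at e1'
    simpa [← Nat.xor_assoc] using e1'.symm
  exact ⟨ρ, hab ▸ hh⟩

theorem exists_core {a : ℕ} (ha : a < 4096) :
    ∃ e ∈ twoCoreOfCentralizer z, S.rep e = Fr.F.Φ a ∧ Fr.Img e a mI 1 := by
  obtain ⟨e, he, he'⟩ := S.rep_surj (Fr.F.Φ a)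
  exact ⟨e, he, he', img_core he ha he'⟩

theorem mI_mm {M : List ℕ} (h : okMat M = true) : mm mI M = M := by
  simp only [mm]
  refine (List.map_congr_left fun c hc => ?_).trans (List.map_id M)
  simp only [okMat, Bool.and_eq_true, List.all_eq_true, decide_eq_true_eq] at h
  exact app_mI (h.2 c hc)

theorem mm_mI {M : List ℕ} (h : okMat M = true) : mm M mI = M := by
  refine List.ext_getElem (by rw [okMat_length (okMat_mm h okMat_mI), okMat_length h]) fun i h1 h2 => ?_
  rw [← List.getD_eq_getElem _ 0 h1, ← List.getD_eq_getElem _ 0 h2, ← app_two_pow h1, ← app_two_pow h2, app_mm,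
    app_mI (Nat.pow_lt_pow_right (by norm_num) (show i < 12 by rwa [okMat_length h] at h2))]

/-- Invariance under the core. -/
theorem clN_translate {M : List ℕ} (hM : okMat M = true) {a c : ℕ} (ha : a < 4096) (hc : c < 4096) (x : G) :
    Fr.clN x (trC M a c) M = Fr.clN x a M := by
  obtain ⟨e, -, -, hi⟩ := exists_core (Fr := Fr) hc
  have h := clN_conj hi hM hM ha (by rw [mI_mm hM, mm_mI hM]) x
  rw [app_mI ha, Nat.xor_comm c a] at h
  exact h

theorem evG_ok {g : List ℕ} (hg : wordsOK g = true) :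
    Fr.Pm (g.map Fr.gl).prod (wordπ g) ∧ Fr.F.Rep (g.map Fr.gl).prod (evG g) :=
  Fr.word_spec g fun k hk => of_decide_eq_true (List.all_eq_true.1 hg k hk)

/-- Invariance under a word. -/
theorem clN_word {g : List ℕ} (hg : wordsOK g = true) {M M' : List ℕ} (hM : okMat M = true) (hM' : okMat M' = true)
    (e : mm (evG g) M = mm M' (evG g)) {a : ℕ} (ha : a < 4096) (x : G) :
    Fr.clN x (app (evG g) a) M' = Fr.clN x a M := by
  obtain ⟨hn, hR⟩ := evG_ok (Fr := Fr) hg
  have h := clN_conj (img_pm hn hR) hM hM' ha e x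
  rwa [Nat.zero_xor, app_zero, Nat.xor_zero] at h

variable (Fr)

theorem rep_word_ok {r : ℕ} : wordsOK (repW r) = true := by
  unfold repW; split <;> rfl

/-- The representative of a class. -/
noncomputable def repE (r : ℕ) : G := ((repW r).map Fr.gl).prod

theorem repE_spec (r : ℕ) : Fr.Pm (Fr.repE r) (wordπ (repW r)) ∧ Fr.F.Rep (Fr.repE r) (repM r) :=
  evG_ok (rep_word_ok)

theorem repE_ok (r : ℕ) : okMat (repM r) = true ∧ Fr.F.Rep (Fr.repE r) (repM r) :=
  ⟨(Fr.repE_spec r).2.ok, (Fr.repE_spec r).2⟩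

theorem act_of_A {x : G} (hx : x ∈ Fr.A) {g : G} {M : List ℕ} (hg : Fr.Act g M) : Fr.Act (g * x) M :=
  ⟨hg.lt, fun v hv => by
    rw [show g * x * Fr.Av v * (g * x)⁻¹ = g * (x * Fr.Av v * x⁻¹) * g⁻¹ by group,
      Fr.A_comm x hx _ (Fr.Av_mem hv), mul_inv_cancel_right, hg.eq v hv]⟩

theorem repE_act {r : ℕ} (hr : r = 2 ∨ r = 3) : Fr.Act (Fr.repE r) (outM r) := by
  rcases hr with rfl | rfl
  · rw [show Fr.repE 2 = Fr.F.o by simp [repE, repW, gl]]
    exact Fr.act_o
  · rw [show Fr.repE 3 = Fr.F.o * (Fr.F.s * (Fr.F.R.x * Fr.F.R.x)) * Fr.X.b 1 by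
      simp [repE, repW, gl, mul_assoc]]
    exact Fr.act_of_A ⟨128 * 1, by norm_num, Fr.Av_high (by norm_num)⟩
      (Fr.act_mul Fr.act_o (Fr.act_mul Fr.act_s (Fr.act_mul Fr.act_x Fr.act_x)))

variable {Fr}

/-- The outer representatives are involutions. -/
theorem repE_sq (K : Fr.Kap) {r : ℕ} (hr : r = 2 ∨ r = 3) : Fr.repE r * Fr.repE r = 1 := by
  set m := Fr.repE r with hm
  obtain ⟨hPm, hR⟩ := Fr.repE_spec r
  have hc := List.all_eq_true.1 outer_square r (by rcases hr with rfl | rfl <;> simp)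
  simp only [Bool.and_eq_true, beq_iff_eq, List.all_eq_true, List.mem_range, bne_iff_ne] at hc
  have hR2 := Fr.F.toCoord.rep_mul hR hR
  rw [hc.1] at hR2
  obtain ⟨h2, -⟩ := (hPm.mul hPm).eq_of_rep Pm.one hR2 Fr.F.toCoord.rep_one
  refine h2.resolve_right fun e => ?_
  rw [one_mul] at e
  have hA := Fr.repE_act hr
  have hN := Fr.mem_normalizer_of_act hA
  obtain ⟨c, hcl, hce⟩ := K.exists_translate hN
  set σ := K.f ⟨m, hN⟩ with hσ
  have hel : K.el σ = Fr.Av c * m := by
    conv_rhs => rw [hm, hce, ← mul_assoc, Fr.Av_mul hcl hcl, Nat.xor_self, Fr.Av_zero, one_mul]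
  have hσσ : σ * σ = 1 := by
    rw [hσ, ← map_mul, K.ker]
    show m * m ∈ Fr.A
    rw [e]; exact Fr.z_mem_A
  have h1 : K.el σ * K.el σ = 1 := by rw [← K.el_mul, hσσ, K.el_one]
  rw [hel, show Fr.Av c * m * (Fr.Av c * m) = Fr.Av c * (m * Fr.Av c * m⁻¹) * (m * m) by group, hA.eq c hcl, e,
    Fr.Av_mul hcl (hA.lt c)] at h1
  have h3 : Fr.Av (c ^^^ app (outM r) c) = Fr.Av 1 :=
    ((eq_inv_of_mul_eq_one_left h1).trans (inv_eq_of_mul_eq_one_right S.zz)).trans Fr.Av_one.symm
  exact hc.2 c hcl (Fr.Av_inj (Nat.xor_lt_two_pow (n := 11) hcl (hA.lt c)) (by norm_num) h3)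

theorem qTab_eq {a : ℕ} (ha : a < 4096) : qTab.testBit a = qv a :=
  beq_iff_eq.1 (List.all_eq_true.1 q_table a (List.mem_range.2 ha))

theorem mem_invR {r a : ℕ} (hr : r < 4) :
    a ∈ invR r ↔ a < 4096 ∧ app (repM r) a = a ∧ (r < 2 → qv a = false) := by
  rw [← beq_iff_eq.1 (List.all_eq_true.1 inv_table r (List.mem_range.2 hr))]
  simp only [List.mem_filter, List.mem_range, Bool.and_eq_true, beq_iff_eq, Bool.not_eq_true', Bool.and_eq_false_iff,
    decide_eq_false_iff_not]
  refine and_congr_right fun ha => and_congr_right fun _ => ?_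
  rw [qTab_eq ha]
  tauto

theorem sq_pm {e m : G} {a : ℕ} (he : e ∈ twoCoreOfCentralizer z) (ha : a < 4096) (ea : S.rep e = Fr.F.Φ a)
    (hm : m * m = 1) (hc : m * e * m⁻¹ = e) : e * m * (e * m) = zp z (qv a) := by
  rw [show e * m * (e * m) = e * (m * e * m⁻¹) * (m * m) by group, hc, hm, mul_one, S.q_sq e he, ea,
    Fr.F.toCoord.form a ha, Coord.pw_zb]

omit [Finite G] in
theorem outer_lookup {r a : ℕ} (hr : r = 2 ∨ r = 3) (ha : a ∈ invR r) :
    ∃ c < 4096, trC (repM r) 0 c = a := by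
  obtain ⟨l1, l2⟩ := outer_table.2.2
  have key : ∀ (C : List ℕ) (M : List ℕ), C.length = (invR r).length →
      ((C.zip (invR r)).all fun e => decide (e.1 < 4096) && (trC M 0 e.1 == e.2)) = true →
      ∃ c < 4096, trC M 0 c = a := fun C M hl h => by
    rw [← List.map_snd_zip (l₁ := C) (l₂ := invR r) (le_of_eq hl.symm)] at ha
    obtain ⟨e, he, rfl⟩ := List.mem_map.1 ha
    have := List.all_eq_true.1 h e he
    simp only [Bool.and_eq_true, decide_eq_true_eq, beq_iff_eq] at this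
    exact ⟨e.1, this⟩
  rcases hr with rfl | rfl
  · exact key comm2 _ l1 outer_table.1
  · exact key comm3 _ l2 outer_table.2.1

/-- The square over a fixed vector at a representative. -/
theorem sq_rep (K : Fr.Kap) {r : ℕ} (hr : r < 4) {h : G} {a : ℕ} {π : Equiv.Perm GolayPt}
    (hi : Fr.Img h a (repM r) π) (hfix : app (repM r) a = a) : h * h = zp z (decide (r < 2) && qv a) := by
  obtain ⟨ha, e, he, n, hn, hR, rfl, ea⟩ := hi
  obtain ⟨hPm, hR'⟩ := Fr.repE_spec r
  obtain ⟨hcase, -⟩ := hn.eq_of_rep hPm hR hR'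
  set m := Fr.repE r with hm
  -- replace the element by the representative
  have key : ∀ f ∈ twoCoreOfCentralizer z, S.rep f = Fr.F.Φ a → f * m * (f * m) = zp z (decide (r < 2) && qv a) := by
    intro f hf ef
    interval_cases r
    · have h1 : m = 1 := by simp [hm, repE, repW]
      simpa using sq_pm hf ha ef (m := m) (by rw [h1, one_mul]) (by rw [h1]; group)
    · have h1 : m = Fr.X.b 1 := by simp [hm, repE, repW, gl]
      rw [h1] at hR' ⊢
      simpa using sq_pm hf ha ef (Fr.X.sq (by norm_num)) (S.fix_exact (Fr.X.mem 1 (by norm_num)) hf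
        (by rw [ef, hR'.eq a ha, hfix]))
    all_goals
      have hm2 : m * m = 1 := by rw [hm]; refine repE_sq K ?_; norm_num
      obtain ⟨c, hc, hca⟩ := outer_lookup (by simp) ((mem_invR (r := _) (by norm_num)).2
        ⟨ha, hfix, fun h => absurd h (by norm_num)⟩)
      obtain ⟨x, hx, ex, -⟩ := exists_core (Fr := Fr) hc
      have hmz : m * z = z * m := hPm.hz
      have hy := S.ext.norm m hmz x⁻¹ (inv_mem hx)
      have he0 : x * (m * x⁻¹ * m⁻¹) ∈ twoCoreOfCentralizer z := mul_mem hx hy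
      have e0 : S.rep (x * (m * x⁻¹ * m⁻¹)) = Fr.F.Φ a := by
        rw [S.rep_mul _ hx _ hy, ← S.act_rep m hmz _ (inv_mem hx), S.rep_inv hx, ex, hR'.eq c hc,
          ← Fr.F.toCoord.add, ← hca, trC, Nat.zero_xor]
      have hsq : x * (m * x⁻¹ * m⁻¹) * m * (x * (m * x⁻¹ * m⁻¹) * m) = 1 := by
        rw [show x * (m * x⁻¹ * m⁻¹) * m * (x * (m * x⁻¹ * m⁻¹) * m) = x * (m * m) * x⁻¹ by group, hm2, mul_one,
          mul_inv_cancel]
      simp only [show ¬ (2 : ℕ) < 2 by norm_num, show ¬ (3 : ℕ) < 2 by norm_num, decide_false, Bool.false_and, zp,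
        if_false, Bool.false_eq_true]
      rcases S.eq_or_mul_z he0 hf (e0.trans ef.symm) with rfl | rfl
      · exact hsq
      · set u := x * (m * x⁻¹ * m⁻¹)
        rw [show u * z * m * (u * z * m) = u * (z * m) * (u * (z * m)) by group, ← hmz,
          show u * (m * z) * (u * (m * z)) = u * m * (z * u) * m * z by group, ← S.ext.central u he0,
          show u * m * (u * z) * m * z = u * m * u * (z * m) * z by group, ← hmz,
          show u * m * u * (m * z) * z = u * m * (u * m) * (z * z) by group, hsq, S.zz, one_mul]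
  rcases hcase with rfl | rfl
  · exact key e he ea
  · rw [show e * (m * z) = e * z * m by rw [mul_assoc, ← hPm.hz]]
    exact key _ (S.mul_z_mem he) (by rw [S.rep_mul_z he, ea])

omit [Finite G] in
theorem zp_conj (S : Setting z P) {g : G} (hg : g * z = z * g) (b : Bool) : g * zp z b * g⁻¹ = zp z b := by
  rw [S.zp_comm hg, mul_inv_cancel_right]

/-- The square over a fixed vector. -/
theorem sq_wit (K : Fr.Kap) {M : List ℕ} {r : ℕ} {g : List ℕ} (hw : witOK M r g = true) {h : G} {a : ℕ}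
    {π : Equiv.Perm GolayPt} (hi : Fr.Img h a M π) (hfix : app M a = a) :
    h * h = zp z (decide (r < 2) && qv a) := by
  simp only [witOK, Bool.and_eq_true, decide_eq_true_eq, beq_iff_eq] at hw
  obtain ⟨⟨hg, hr⟩, e⟩ := hw
  obtain ⟨hn, hR⟩ := evG_ok (Fr := Fr) hg
  set n := (g.map Fr.gl).prod with hn'
  have hk := (img_pm hn hR).conj hi (Fr.repE_ok r).1 e
  rw [Nat.zero_xor, app_zero, Nat.xor_zero] at hk
  have hq := Fr.F.toCoord.rep_qv hR hi.1
  have h1 := sq_rep K hr hk (by rw [← app_mm, ← e, app_mm, hfix])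
  rw [hq, show n * h * n⁻¹ * (n * h * n⁻¹) = n * (h * h) * n⁻¹ by group] at h1
  rw [← zp_conj S hn.hz, mul_left_inj, mul_right_inj] at h1
  exact h1

theorem exists_over {r a : ℕ} (ha : a < 4096) : ∃ h π, Fr.Img h a (repM r) π := by
  obtain ⟨hPm, hR⟩ := Fr.repE_spec r
  obtain ⟨e, -, -, hi⟩ := exists_core (Fr := Fr) ha
  refine ⟨e * Fr.repE r, 1 * wordπ (repW r), ?_⟩
  have h := hi.mul (img_pm hPm hR)
  rwa [app_zero, Nat.xor_zero, mI_mm hR.ok] at h

theorem repM_ne : ∀ r < 4, r ≠ 0 → repM r ≠ mI := by decide +kernel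

/-- Both kinds together. -/
theorem cl_sum (K : Fr.Kap) (D : Fr.Duadic) (hfus : Fr.Classes) {r a : ℕ} (hr : r < 4) (ha : a ∈ invR r) :
    Fr.clN z a (repM r) + Fr.clN (Fr.Av 2) a (repM r) = cntI r a := by
  classical
  obtain ⟨hlt, hfix, hq⟩ := (mem_invR hr).1 ha
  obtain ⟨h, π, hi⟩ := exists_over (Fr := Fr) (r := r) hlt
  rw [clN_eq hi, clN_eq hi]
  unfold cntI
  by_cases h0 : r = 0 ∧ a = 0
  · obtain ⟨rfl, rfl⟩ := h0
    obtain ⟨-, hc, -⟩ := Img.mem_core (a := 0) (π := π) (show Fr.Img h 0 mI π from hi)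
    rw [Fr.F.toCoord.zero'] at hc
    have hE := (Img.mem_core (show Fr.Img h 0 mI π from hi)).1
    have h1z : ¬ IsConj z (1 : G) := fun e => S.ext.ne (isConj_one_left.1 e)
    have h1t : ¬ IsConj (Fr.Av 2) (1 : G) := fun e => Fr.two_ne_one (isConj_one_left.1 e)
    have hzt : ¬ IsConj (Fr.Av 2) z := fun e => Fr.not_conj_two hfus e.symm
    rcases (S.rep_zero h hE).1 hc with rfl | rfl
    · rw [one_mul, if_neg h1z, if_pos (IsConj.refl z), if_neg h1t, if_neg hzt]; rfl
    · rw [S.zz, if_neg h1z, if_pos (IsConj.refl _), if_neg h1t, if_neg hzt]; rfl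
  · have n0 : ¬ ((r == 0) && (a == 0)) = true := by simpa using h0
    have n1 : ¬ (decide (r < 2) && qv a) = true := by
      simp only [Bool.and_eq_true, decide_eq_true_eq]; rintro ⟨h2, h3⟩; rw [hq h2] at h3; exact Bool.noConfusion h3
    rw [qTab_eq hlt, if_neg n0, if_neg n1]
    have key : ∀ g π', Fr.Img g a (repM r) π' →
        ((if IsConj z g then 1 else 0) + if IsConj (Fr.Av 2) g then 1 else 0) = 1 := by
      intro g π' hg
      have hb : (decide (r < 2) && qv a) = false := by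
        by_cases h2 : r < 2
        · rw [hq h2, Bool.and_false]
        · simp [h2]
      have h2 : g * g = 1 := by rw [sq_rep K hr hg hfix, hb]; rfl
      have h1 : g ≠ 1 := by
        rintro rfl
        obtain ⟨e1, e2, -⟩ := hg.unique Img.one
        exact h0 ⟨by_contra fun hne => repM_ne r hr hne e2, e1⟩
      have ho : orderOf g = 2 := orderOf_eq_prime (by rw [pow_two]; exact h2) h1
      rcases Fr.two_classes D hfus g ho with hc | hc
      · rw [if_pos hc.symm, if_neg fun h' => Fr.not_conj_two hfus (hc.symm.trans h'.symm)]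
      · rw [if_neg fun h' => Fr.not_conj_two hfus (h'.trans hc), if_pos hc.symm]
    have k1 := key h π hi
    have k2 := key (h * z) π hi.mul_z
    omega

theorem conj_z_Av (hfus : Fr.Classes) {v : ℕ} (hv : v < 2048) (hv0 : v ≠ 0) :
    IsConj z (Fr.Av v) ↔ tMask.testBit v = false := by
  rw [isConj_iff, hfus v hv]
  simp [hv0]

theorem clN_low (hfus : Fr.Classes) {n k : ℕ} (hn : n < 64) (hk : k < 2) (hnk : n ≠ 0 ∨ k ≠ 0) :
    Fr.clN z n (repM k) = (if tMask.testBit (2 * n + 128 * k) then 0 else 1) +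
      (if tMask.testBit (2 * n + 128 * k + 1) then 0 else 1) := by
  classical
  have hv : 2 * n + 128 * k < 2048 := by omega
  have hv1 : 2 * n + 128 * k + 1 < 2048 := by omega
  obtain ⟨hlE, hlr, -⟩ := Fr.F.toCoord.lh_spec n
  have hM : akM.getD k [] = repM k := by interval_cases k <;> decide +kernel
  have hi : Fr.Img (Fr.Av (2 * n + 128 * k)) n (repM k) (wordπ (kw k)) := by
    refine ⟨by omega, _, mul_mem (S.zp_mem_E ((2 * n + 128 * k).testBit 0)) hlE, Fr.X.b k,
      Or.inl ⟨Fr.X.mem k (by omega), Fr.X.ψ_b k (by omega)⟩, hM ▸ Fr.rep_b k (by omega), ?_, ?_⟩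
    · rw [Av, show (2 * n + 128 * k) / 2 % 64 = n by omega, show (2 * n + 128 * k) / 128 = k by omega]
    · rw [S.rep_mul _ (S.zp_mem_E _) _ hlE, hlr,
        (S.rep_zero _ (S.zp_mem_E _)).2 (by cases (2 * n + 128 * k).testBit 0 <;> simp [zp]), zero_add]
  have hx : Fr.Av (2 * n + 128 * k) * z = Fr.Av (2 * n + 128 * k + 1) := by
    rw [show Fr.Av (2 * n + 128 * k) * z = Fr.Av (2 * n + 128 * k) * Fr.Av 1 by rw [Fr.Av_one],
      Fr.Av_mul hv (by norm_num)]
    congr 1
    exact Nat.xor_one_of_even ⟨n + 64 * k, by ring⟩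
  rw [clN_eq hi, hx, if_congr (conj_z_Av hfus hv (by omega)) rfl rfl,
    if_congr (conj_z_Av hfus hv1 (by omega)) rfl rfl]
  cases tMask.testBit (2 * n + 128 * k) <;> cases tMask.testBit (2 * n + 128 * k + 1) <;> simp

variable (Fr) in
/-- The three parameters. -/
noncomputable def par (i : ℕ) : ℕ := Fr.clN z (if i = 1 then innerA else 0) (repM i)

theorem zV_low (hfus : Fr.Classes) {n k : ℕ} (hn : n < 64) (hk : k < 2) (hnk : n ≠ 0 ∨ k ≠ 0) (x y w : ℕ) :
    Fr.clN z n (repM k) = zV x y w k n := by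
  rw [clN_low hfus hn hk hnk]
  obtain ⟨l0, l1⟩ := low_table
  interval_cases k
  · have h := List.all_eq_true.1 l0 n (List.mem_range.2 hn)
    have hn0 : n ≠ 0 := hnk.resolve_right (fun h => h rfl)
    simp only [Bool.or_eq_true, beq_iff_eq, hn0, false_or, Bool.and_eq_true] at h
    rw [Nat.mul_zero, Nat.add_zero, ← h.1]
    rfl
  · have h := List.all_eq_true.1 l1 n (List.mem_range.2 hn)
    simp only [Bool.and_eq_true, beq_iff_eq, Bool.or_eq_true] at h
    rw [Nat.mul_one, show 2 * n + 128 + 1 = 2 * n + 129 by omega, ← h.2]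
    simp only [zV, h.1.1]
    rcases h.1.2 with e | e <;> simp [e]

theorem reach_step (hfus : Fr.Classes) (x y w : ℕ) : ∀ i, i ≤ 6 → ∀ a ∈ invR 0, a ≠ 0 →
    (reach.getD i 0).testBit a = true → Fr.clN z a (repM 0) = zV x y w 0 a := by
  obtain ⟨-, r0, r1⟩ := reach_table
  intro i
  induction i with
  | zero =>
    intro _ a ha ha0 hb
    have h := List.all_eq_true.1 r0 a (List.mem_range.2 ((mem_invR (by norm_num)).1 ha).1)
    simp only [hb, Bool.not_true, Bool.false_or, Bool.and_eq_true, decide_eq_true_eq] at h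
    exact zV_low hfus h.1 (by norm_num) (Or.inl ha0) x y w
  | succ i ih =>
    intro hi a ha ha0 hb
    obtain ⟨hlt, -, hq⟩ := (mem_invR (by norm_num)).1 ha
    have h := List.all_eq_true.1 (List.all_eq_true.1 r1 i (List.mem_range.2 (by omega))) a ha
    simp only [hb, Bool.not_true, Bool.false_or, Bool.or_eq_true, beq_iff_eq, ha0, false_or, List.any_eq_true,
      List.mem_range, Bool.and_eq_true] at h
    rcases h with h | ⟨k, hk, ⟨hb', ht⟩, hqb⟩
    · exact ih (by omega) a ha ha0 h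
    set b := app (gM k) a with hbdef
    obtain ⟨-, hR⟩ := Fr.gl_spec hk
    have hblt : b < 4096 := app_lt_of_ok hR.ok a
    have hb0 : b ≠ 0 := fun e => ha0 (rep_injOn hR hlt (by norm_num) (by rw [app_zero]; exact e))
    have h0 : repM 0 = mI := rfl
    have hbm : b ∈ invR 0 := (mem_invR (by norm_num)).2
      ⟨hblt, by rw [h0, app_mI hblt], fun _ => by rw [← qTab_eq hblt]; exact hqb⟩
    have hev : evG [k] = gM k := mm_mI hR.ok
    have e := clN_word (Fr := Fr) (g := [k]) (M := repM 0) (M' := repM 0)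
      (by simp [wordsOK]; exact hk) (Fr.repE_ok 0).1 (Fr.repE_ok 0).1
      (by rw [hev, h0, mm_mI hR.ok, mI_mm hR.ok]) hlt z
    rw [hev] at e
    rw [← e, ih (by omega) b hbm hb0 hb']
    simp [zV, hb0, ha0, ← ht]

/-- The conjugates of the central involution over fixed vectors at the representatives. -/
theorem clN_z (hfus : Fr.Classes) {r a : ℕ} (hr : r < 4) (ha : a ∈ invR r) :
    Fr.clN z a (repM r) = zV (Fr.par 1) (Fr.par 2) (Fr.par 3) r a := by
  classical
  obtain ⟨hlt, hfix, hq⟩ := (mem_invR hr).1 ha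
  interval_cases r
  · by_cases ha0 : a = 0
    · subst ha0
      rw [clN_eq (Fr := Fr) (show Fr.Img 1 0 (repM 0) 1 from Img.one), one_mul, if_pos (IsConj.refl z),
        if_neg fun e => S.ext.ne (isConj_one_left.1 e)]
      rfl
    · refine reach_step hfus _ _ _ 6 le_rfl a ha ha0 ?_
      have h := List.all_eq_true.1 reach_table.1 a ha
      simpa [ha0] using h
  · have hqa : qTab.testBit a = false := by rw [qTab_eq hlt]; exact hq (by norm_num)
    have h := List.all_eq_true.1 inner_table a ha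
    by_cases hm : (zTwo1.testBit a || zOne1.testBit a) = true
    · rw [if_pos hm] at h
      simp only [List.any_eq_true, List.mem_range, Bool.and_eq_true, decide_eq_true_eq, beq_iff_eq] at h
      obtain ⟨j, hj, ⟨hlow, h2⟩, h1⟩ := h
      rw [← clN_translate (Fr.repE_ok 1).1 hlt (c := j <<< 8) (by rw [Nat.shiftLeft_eq]; omega) z,
        zV_low hfus hlow (by norm_num) (Or.inr one_ne_zero) (Fr.par 1) (Fr.par 2) (Fr.par 3)]
      have hql := List.all_eq_true.1 low_table.2 _ (List.mem_range.2 hlow)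
      simp only [Bool.and_eq_true, beq_iff_eq] at hql
      simp [zV, hqa, hql.1.1, h1, h2]
    · rw [if_neg hm] at h
      simp only [List.any_eq_true, List.mem_range, Bool.and_eq_true, beq_iff_eq] at h
      obtain ⟨g, -, ⟨hg, hc⟩, j, hj, hj'⟩ := h
      rw [← clN_word hg (Fr.repE_ok 1).1 (Fr.repE_ok 1).1 hc hlt z,
        ← clN_translate (Fr.repE_ok 1).1 (app_lt_of_ok (evG_ok (Fr := Fr) hg).2.ok a) (c := j <<< 8)
          (by rw [Nat.shiftLeft_eq]; omega) z, hj']
      simp only [Bool.or_eq_true, not_or, Bool.not_eq_true] at hm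
      simp [zV, hqa, hm.1, hm.2, par]
  all_goals
    obtain ⟨c, hc, hca⟩ := outer_lookup (by simp) ha
    rw [← hca, clN_translate (Fr.repE_ok _).1 (by norm_num) hc]
    simp [zV, par]

theorem clN_t (K : Fr.Kap) (D : Fr.Duadic) (hfus : Fr.Classes) {r a : ℕ} (hr : r < 4) (ha : a ∈ invR r) :
    Fr.clN (Fr.Av 2) a (repM r) = tV (Fr.par 1) (Fr.par 2) (Fr.par 3) r a := by
  rw [tV, ← cl_sum K D hfus hr ha, ← clN_z hfus hr ha]
  omega

theorem par_le : Fr.par 1 < 3 ∧ Fr.par 2 < 3 ∧ Fr.par 3 < 3 := by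
  have key : ∀ i a, a < 4096 → Fr.clN z a (repM i) < 3 := fun i a ha => by
    obtain ⟨h, π, hi⟩ := exists_over (Fr := Fr) (r := i) ha
    exact Nat.lt_succ_of_le (clN_le hi z)
  exact ⟨key 1 _ (by decide), key 2 _ (by norm_num), key 3 _ (by norm_num)⟩

end Cfsg.Agent.Spor.JFour.Frame
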