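import Cfsg.Agent.Lib.Spor.JFourType.OrderT.Count

/-!
The conjugates of the central involution commuting with the involution of the second class, and the exchange
between the two centralisers.
-/

set_option autoImplicit false
set_option maxRecDepth 100000
set_option linter.style.haveILetI false

open Cfsg Cfsg.Agent.Spor.Golay
open Cfsg.Agent.Spor.Cos.J4Sub (app mm app_xor app_zero app_mm app_lt)
open scoped Pointwise

namespace Cfsg.Agent.Spor.JFour.OrderH

/-- Counting conjugators by their results. -/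
theorem card_conjugators {G : Type*} [Group G] [Finite G] (a : G) (p : G → Prop) :
    Nat.card {g : G // p (g * a * g⁻¹)} =
      Nat.card {u : G // IsConj a u ∧ p u} * Nat.card ↥(Subgroup.centralizer ({a} : Set G)) := by
  classical
  rw [← Nat.card_prod]
  choose c hc using fun u : {u : G // IsConj a u ∧ p u} => isConj_iff.1 u.2.1
  refine (Nat.card_congr (Equiv.ofBijective
    (fun e : {u : G // IsConj a u ∧ p u} × ↥(Subgroup.centralizer ({a} : Set G)) =>
      (⟨c e.1 * e.2, by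
        have hk := Subgroup.mem_centralizer_singleton_iff.1 e.2.2
        rw [show c e.1 * e.2 * a * (c e.1 * e.2)⁻¹ = c e.1 * ((e.2 : G) * a) * (e.2 : G)⁻¹ * (c e.1)⁻¹ by group, hk,
          show c e.1 * (a * (e.2 : G)) * (e.2 : G)⁻¹ * (c e.1)⁻¹ = c e.1 * a * (c e.1)⁻¹ by group, hc]
        exact e.1.2.2⟩ : {g : G // p (g * a * g⁻¹)})) ⟨?_, ?_⟩)).symm
  · rintro ⟨u, k⟩ ⟨u', k'⟩ e
    have e' : c u * (k : G) = c u' * k' := congrArg Subtype.val e
    have conjk : ∀ (w : {u : G // IsConj a u ∧ p u}) (l : ↥(Subgroup.centralizer ({a} : Set G))),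
        c w * l * a * (c w * l)⁻¹ = w.1 := fun w l => by
      rw [show c w * l * a * (c w * l)⁻¹ = c w * ((l : G) * a) * (l : G)⁻¹ * (c w)⁻¹ by group,
        Subgroup.mem_centralizer_singleton_iff.1 l.2,
        show c w * (a * (l : G)) * (l : G)⁻¹ * (c w)⁻¹ = c w * a * (c w)⁻¹ by group, hc]
    have hu : u = u' := Subtype.ext (by rw [← conjk u k, e', conjk])
    subst hu
    exact Prod.ext rfl (Subtype.ext (mul_left_cancel e'))
  · rintro ⟨g, hg⟩
    set u : {u : G // IsConj a u ∧ p u} := ⟨g * a * g⁻¹, isConj_iff.2 ⟨g, rfl⟩, hg⟩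
    refine ⟨(u, ⟨(c u)⁻¹ * g, ?_⟩), Subtype.ext (mul_inv_cancel_left _ _)⟩
    rw [Subgroup.mem_centralizer_singleton_iff]
    have h : c u * a * (c u)⁻¹ = g * a * g⁻¹ := hc u
    calc (c u)⁻¹ * g * a = (c u)⁻¹ * (g * a * g⁻¹) * g := by group
      _ = _ := by rw [← h]; group

/-- The exchange between two centralisers. -/
theorem exchange {G : Type*} [Group G] [Finite G] (a b : G) :
    Nat.card {u : G // IsConj a u ∧ u * b = b * u} * Nat.card ↥(Subgroup.centralizer ({a} : Set G)) =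
      Nat.card {v : G // IsConj b v ∧ v * a = a * v} * Nat.card ↥(Subgroup.centralizer ({b} : Set G)) := by
  rw [← card_conjugators a fun u => u * b = b * u, ← card_conjugators b fun v => v * a = a * v]
  refine Nat.card_congr (Equiv.subtypeEquiv (Equiv.inv G) fun g => ?_)
  show _ ↔ g⁻¹ * b * g⁻¹⁻¹ * a = a * (g⁻¹ * b * g⁻¹⁻¹)
  constructor
  · intro h
    calc g⁻¹ * b * g⁻¹⁻¹ * a = g⁻¹ * (b * (g * a * g⁻¹)) * g := by group
      _ = g⁻¹ * (g * a * g⁻¹ * b) * g := by rw [h]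
      _ = _ := by group
  · intro h
    calc g * a * g⁻¹ * b = g * (a * (g⁻¹ * b * g⁻¹⁻¹)) * g⁻¹ := by group
      _ = g * (g⁻¹ * b * g⁻¹⁻¹ * a) * g⁻¹ := by rw [h]
      _ = _ := by group

end Cfsg.Agent.Spor.JFour.OrderH

namespace Cfsg.Agent.Spor.JFour.Frame.Kap

open Mathieu OrderT

variable {G : Type*} [Group G] {z : G} {P : Subgroup G} {S : Setting z P} {Fr : Frame S} [Finite G] (K : Fr.Kap)

/-- The conjugates commuting with the second involution with a given image. -/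
noncomputable def xCount (σ : Equiv.Perm GolayPt) : ℕ :=
  Nat.card {u : G // (IsConj z u ∧ u * Fr.Av 2 = Fr.Av 2 * u) ∧
    ∃ h : u ∈ Subgroup.normalizer (Fr.A : Set G), (K.f ⟨u, h⟩ : Equiv.Perm GolayPt) = σ}

theorem xCount_conj {g σ : Equiv.Perm GolayPt} (hg : g ∈ Census.Fx [[3]]) : K.xCount (g * σ * g⁻¹) = K.xCount σ := by
  obtain ⟨hgm, hgp⟩ := mem_Fx_pair.1 hg
  set n : ↥(Subgroup.normalizer (Fr.A : Set G)) := K.κ ⟨g, hgm⟩ with hn
  have hfn : (K.f n : Equiv.Perm GolayPt) = g := by rw [hn, K.sect]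
  have hnt : Commute (n : G) (Fr.Av 2) := (K.fix_iff n.2).2 (by rw [hfn]; exact hgp)
  refine (Nat.card_congr (Equiv.subtypeEquiv (MulAut.conj (n : G)).toEquiv fun u => ?_)).symm
  show _ ↔ (IsConj z ((n : G) * u * (n : G)⁻¹) ∧ (n : G) * u * (n : G)⁻¹ * Fr.Av 2 = _) ∧
    ∃ h : (n : G) * u * (n : G)⁻¹ ∈ Subgroup.normalizer (Fr.A : Set G), _
  have hc : IsConj u ((n : G) * u * (n : G)⁻¹) := isConj_iff.2 ⟨(n : G), rfl⟩
  refine and_congr (and_congr ⟨fun h => h.trans hc, fun h => h.trans hc.symm⟩ ⟨fun h => ?_, fun h => ?_⟩)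
    ⟨fun ⟨h, e⟩ => ?_, fun ⟨h, e⟩ => ?_⟩
  · exact ((hnt.mul_left h).mul_left hnt.inv_left).eq
  · have : Commute ((n : G)⁻¹ * ((n : G) * u * (n : G)⁻¹) * (n : G)) (Fr.Av 2) :=
      (hnt.inv_left.mul_left h).mul_left hnt
    rwa [show (n : G)⁻¹ * ((n : G) * u * (n : G)⁻¹) * (n : G) = u by group] at this
  · have hm := mul_mem (mul_mem n.2 h) (inv_mem n.2)
    have e1 : (⟨(n : G) * u * (n : G)⁻¹, hm⟩ : ↥(Subgroup.normalizer (Fr.A : Set G))) = n * ⟨u, h⟩ * n⁻¹ :=
      Subtype.ext rfl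
    refine ⟨hm, (congrArg (fun m => (K.f m : Equiv.Perm GolayPt)) e1).trans ?_⟩
    rw [map_mul, map_mul, map_inv, Subgroup.coe_mul, Subgroup.coe_mul, Subgroup.coe_inv, hfn, e]
  · have hu : u ∈ Subgroup.normalizer (Fr.A : Set G) := by
      have := mul_mem (mul_mem (inv_mem n.2) h) n.2
      simpa [mul_assoc] using this
    refine ⟨hu, ?_⟩
    have e1 : (⟨(n : G) * u * (n : G)⁻¹, h⟩ : ↥(Subgroup.normalizer (Fr.A : Set G))) = n * ⟨u, hu⟩ * n⁻¹ :=
      Subtype.ext rfl
    have e2 := (congrArg (fun m => (K.f m : Equiv.Perm GolayPt)) e1).symm.trans e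
    rw [map_mul, map_mul, map_inv, Subgroup.coe_mul, Subgroup.coe_mul, Subgroup.coe_inv, hfn] at e2
    exact mul_left_cancel (mul_right_cancel e2)

/-- The conjugates commuting with the second involution are the sum over the images. -/
theorem card_commuting (D : Fr.Duadic) (hfus : Fr.Classes) :
    Nat.card {u : G // IsConj z u ∧ u * Fr.Av 2 = Fr.Av 2 * u} = ∑ σ ∈ invSet, K.xCount σ := by
  classical
  haveI := Fintype.ofFinite G
  have hx : ∀ σ, K.xCount σ = (Finset.univ.filter fun u : G => (IsConj z u ∧ u * Fr.Av 2 = Fr.Av 2 * u) ∧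
      ∃ h : u ∈ Subgroup.normalizer (Fr.A : Set G), (K.f ⟨u, h⟩ : Equiv.Perm GolayPt) = σ).card := fun σ => by
    rw [xCount, Nat.card_eq_fintype_card, Fintype.card_subtype]
  rw [Finset.sum_congr rfl fun σ _ => hx σ, ← Finset.card_biUnion, Nat.card_eq_fintype_card, Fintype.card_subtype]
  · congr 1
    ext u
    simp only [Finset.mem_filter, Finset.mem_univ, true_and, Finset.mem_biUnion]
    refine ⟨fun hu => ?_, fun ⟨_, _, h, _⟩ => h⟩
    have hN : u ∈ Subgroup.normalizer (Fr.A : Set G) :=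
      Fr.centralizer_le_normalizer D hfus (by norm_num) two_mask.1 (Subgroup.mem_centralizer_singleton_iff.2 hu.2)
    have h2 : u * u = 1 := by
      obtain ⟨g, e⟩ := isConj_iff.1 hu.1
      rw [← e, show g * z * g⁻¹ * (g * z * g⁻¹) = g * (z * z) * g⁻¹ by group, S.ext.zz, mul_one, mul_inv_cancel]
    refine ⟨_, mem_invSet.2 ⟨(K.f ⟨u, hN⟩).2, ?_, (K.fix_iff hN).1 hu.2⟩, hu, hN, rfl⟩
    rw [← Subgroup.coe_mul, ← map_mul, show (⟨u, hN⟩ : ↥(Subgroup.normalizer (Fr.A : Set G))) * ⟨u, hN⟩ = 1 from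
      Subtype.ext h2, map_one]
    rfl
  · intro a _ b _ hne
    refine Finset.disjoint_left.2 fun u h1 h2 => hne ?_
    simp only [Finset.mem_filter, Finset.mem_univ, true_and] at h1 h2
    obtain ⟨-, _, e1⟩ := h1
    obtain ⟨-, _, e2⟩ := h2
    exact e1.symm.trans e2

/-- The value at a representative. -/
theorem xCount_eq (hfus : Fr.Classes) {Q : ℕ} (hQ : matOK Q = true) (h2 : comp Q Q = idP)
    (hc : Q = idP ∨ imFull (matQ Q) = true ∧ permOf Q ≠ 1) (hm : permOf Q ∈ invSet) :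
    K.xCount (permOf Q) = (zL Q).length := by
  classical
  obtain ⟨hQm, -, hQp⟩ := mem_invSet.1 hm
  set σ : ↥Cfsg.M24 := ⟨permOf Q, hQm⟩ with hσ
  obtain ⟨zn, zlt⟩ := zL_spec hQ hc
  have hel : ∀ a < 2048, Fr.Av a * K.el σ ∈ Subgroup.normalizer (Fr.A : Set G) := fun a ha =>
    mul_mem (Subgroup.le_normalizer (Fr.Av_mem ha)) (K.κ σ).2
  have himg : ∀ a (ha : a < 2048), (K.f ⟨_, hel a ha⟩ : Equiv.Perm GolayPt) = permOf Q := fun a ha => by
    show (K.f (⟨Fr.Av a, Subgroup.le_normalizer (Fr.Av_mem ha)⟩ * K.κ σ) : Equiv.Perm GolayPt) = _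
    rw [map_mul, (K.ker ⟨Fr.Av a, _⟩).2 (Fr.Av_mem ha), one_mul, K.sect]
  have hcomm : ∀ a < 2048, Fr.Av a * K.el σ * Fr.Av 2 = Fr.Av 2 * (Fr.Av a * K.el σ) := fun a ha =>
    (K.fix_iff (hel a ha)).2 (by rw [himg a ha]; exact hQp)
  have hz : ∀ a < 2048, (a ∈ zL Q ↔ IsConj z (Fr.Av a * K.el σ)) := fun a ha => K.mem_zL hfus hQ h2 hc rfl ha
  generalize zL Q = L at zn zlt hz ⊢
  rw [xCount, ← List.toFinset_card_of_nodup zn, ← Fintype.card_coe, ← Nat.card_eq_fintype_card]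
  refine (Nat.card_eq_of_bijective (fun a : ↥L.toFinset =>
    (⟨Fr.Av a.1 * K.el σ, ⟨(hz _ (zlt _ (List.mem_toFinset.1 a.2))).1 (List.mem_toFinset.1 a.2),
      hcomm _ (zlt _ (List.mem_toFinset.1 a.2))⟩, hel _ (zlt _ (List.mem_toFinset.1 a.2)),
      himg _ (zlt _ (List.mem_toFinset.1 a.2))⟩ : {u : G // (IsConj z u ∧ u * Fr.Av 2 = Fr.Av 2 * u) ∧
      ∃ h : u ∈ Subgroup.normalizer (Fr.A : Set G), (K.f ⟨u, h⟩ : Equiv.Perm GolayPt) = permOf Q})) ⟨fun a b e => ?_, fun ⟨u, ⟨hu, _⟩, hN, e⟩ => ?_⟩).symm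
  · exact Subtype.ext (Fr.Av_inj (zlt _ (List.mem_toFinset.1 a.2)) (zlt _ (List.mem_toFinset.1 b.2))
      (mul_right_cancel (congrArg Subtype.val e)))
  · obtain ⟨v, hv, ev⟩ := K.exists_translate hN
    rw [show K.f ⟨u, hN⟩ = σ from Subtype.ext e] at ev
    obtain rfl : u = _ := ev
    exact ⟨⟨v, List.mem_toFinset.2 ((hz v hv).2 hu)⟩, rfl⟩

theorem x_checks : ((List.range 4).all fun i => matOK (invReps.getD i 0) && (comp (invReps.getD i 0) (invReps.getD i 0)
      == idP) && ((invReps.getD i 0 == idP) || (imFull (matQ (invReps.getD i 0)) &&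
      (List.range 24).any fun x => Golay.get (invReps.getD i 0) x != x))) = true ∧
    (zL (invReps.getD 0 0)).length + 330 * (zL (invReps.getD 1 0)).length + 1155 * (zL (invReps.getD 2 0)).length +
      1386 * (zL (invReps.getD 3 0)).length = 69883 := by decide +kernel

/-- The number of conjugates of the central involution commuting with the second involution. -/
theorem card_commuting_eq (K : Fr.Kap) (D : Fr.Duadic) (hfus : Fr.Classes) :
    Nat.card {u : G // IsConj z u ∧ u * Fr.Av 2 = Fr.Av 2 * u} = 69883 := by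
  rw [K.card_commuting D hfus, sum_classes _ fun g hg σ _ => K.xCount_conj hg]
  have h : ∀ i : Fin 4, K.xCount (permOf (invRep i)) = (zL (invRep i)).length := fun i => by
    have h1 := List.all_eq_true.1 x_checks.1 i (List.mem_range.2 i.2)
    simp only [Bool.and_eq_true, beq_iff_eq, Bool.or_eq_true, List.any_eq_true, List.mem_range, bne_iff_ne] at h1
    obtain ⟨⟨hQ, h2⟩, hc⟩ := h1
    have hv : valid (invRep i) = true := by
      have := repOk_spec (invRep_spec i)
      have h' := invRep_spec i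
      simp only [repOk, Bool.and_eq_true] at h'
      exact h'.1.1.1.1
    refine K.xCount_eq hfus hQ h2 (hc.imp_right fun ⟨hf, x, hx, hne⟩ => ⟨hf, fun e => hne ?_⟩)
      (repOk_spec (invRep_spec i)).1
    have := idx_permOf hv (pt x)
    rw [show permOf (invRep i) = 1 from e, Equiv.Perm.one_apply, idx_pt hx] at this
    exact this.symm
  rw [h, h, h, h]
  exact x_checks.2

end Cfsg.Agent.Spor.JFour.Frame.Kap
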