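import Cfsg.Agent.Lib.Spor.JFourType.OrderH.RowData

/-!
Evaluation of the rows of pairs of classes.
-/

set_option autoImplicit false
set_option maxRecDepth 100000
set_option Elab.async false

namespace Cfsg.Agent.Spor.JFour.OrderH

/-- Correctness of a row. -/
noncomputable def rowOK1 (i : ℕ) : Bool :=
  let e := rows1.getD i ([], [], [], 0)
  pairOK (repWords.getD 1 []) e.1 (repLifts.getD 1 []) e.2.1 e.2.2.1 e.2.2.2

theorem row1_0 : rowOK1 0 = true := by decide +kernel

theorem row1_1 : rowOK1 1 = true := by decide +kernel

theorem row1_2 : rowOK1 2 = true := by decide +kernel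

theorem row1_3 : rowOK1 3 = true := by decide +kernel

theorem row1_4 : rowOK1 4 = true := by decide +kernel

theorem row1_5 : rowOK1 5 = true := by decide +kernel

theorem row1_6 : rowOK1 6 = true := by decide +kernel

theorem row1_7 : rowOK1 7 = true := by decide +kernel

theorem row1_8 : rowOK1 8 = true := by decide +kernel

theorem row1_9 : rowOK1 9 = true := by decide +kernel

theorem row1_10 : rowOK1 10 = true := by decide +kernel

theorem row1_11 : rowOK1 11 = true := by decide +kernel

theorem row1_12 : rowOK1 12 = true := by decide +kernel

theorem row1_13 : rowOK1 13 = true := by decide +kernel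

theorem row1_14 : rowOK1 14 = true := by decide +kernel

theorem row1_15 : rowOK1 15 = true := by decide +kernel

theorem row1_16 : rowOK1 16 = true := by decide +kernel

theorem row1_17 : rowOK1 17 = true := by decide +kernel


end Cfsg.Agent.Spor.JFour.OrderH
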