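import Cfsg.Agent.Lib.Spor.JFourType.OrderH.RowData

/-!
Evaluation of the rows of pairs of classes.
-/

set_option autoImplicit false
set_option maxRecDepth 100000
set_option Elab.async false

namespace Cfsg.Agent.Spor.JFour.OrderH

/-- Correctness of a row. -/
noncomputable def rowOK2 (i : ℕ) : Bool :=
  let e := rows2.getD i ([], [], [], 0)
  pairOK (repWords.getD 2 []) e.1 (repLifts.getD 2 []) e.2.1 e.2.2.1 e.2.2.2

theorem row2_0 : rowOK2 0 = true := by decide +kernel

theorem row2_1 : rowOK2 1 = true := by decide +kernel

theorem row2_2 : rowOK2 2 = true := by decide +kernel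

theorem row2_3 : rowOK2 3 = true := by decide +kernel

theorem row2_4 : rowOK2 4 = true := by decide +kernel

theorem row2_5 : rowOK2 5 = true := by decide +kernel

theorem row2_6 : rowOK2 6 = true := by decide +kernel

theorem row2_7 : rowOK2 7 = true := by decide +kernel

theorem row2_8 : rowOK2 8 = true := by decide +kernel

theorem row2_9 : rowOK2 9 = true := by decide +kernel

theorem row2_10 : rowOK2 10 = true := by decide +kernel

theorem row2_11 : rowOK2 11 = true := by decide +kernel

theorem row2_12 : rowOK2 12 = true := by decide +kernel

theorem row2_13 : rowOK2 13 = true := by decide +kernel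

theorem row2_14 : rowOK2 14 = true := by decide +kernel

theorem row2_15 : rowOK2 15 = true := by decide +kernel

theorem row2_16 : rowOK2 16 = true := by decide +kernel

theorem row2_17 : rowOK2 17 = true := by decide +kernel

theorem row2_18 : rowOK2 18 = true := by decide +kernel

theorem row2_19 : rowOK2 19 = true := by decide +kernel

theorem row2_20 : rowOK2 20 = true := by decide +kernel

theorem row2_21 : rowOK2 21 = true := by decide +kernel

theorem row2_22 : rowOK2 22 = true := by decide +kernel

theorem row2_23 : rowOK2 23 = true := by decide +kernel

theorem row2_24 : rowOK2 24 = true := by decide +kernel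

theorem row2_25 : rowOK2 25 = true := by decide +kernel

theorem row2_26 : rowOK2 26 = true := by decide +kernel

theorem row2_27 : rowOK2 27 = true := by decide +kernel

theorem row2_28 : rowOK2 28 = true := by decide +kernel

theorem row2_29 : rowOK2 29 = true := by decide +kernel

theorem row2_30 : rowOK2 30 = true := by decide +kernel


end Cfsg.Agent.Spor.JFour.OrderH
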