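import Cfsg.Agent.Lib.Spor.JFourType.OrderH.RowCheck0
import Cfsg.Agent.Lib.Spor.JFourType.OrderH.RowCheck1
import Cfsg.Agent.Lib.Spor.JFourType.OrderH.RowCheck2
import Cfsg.Agent.Lib.Spor.JFourType.OrderT.CountData
import Cfsg.Agent.Lib.Spor.JFourType.OrderT.Enum

/-!
The rows of pairs with their permutations and totals.
-/

set_option autoImplicit false
set_option maxRecDepth 100000
set_option Elab.async false

namespace Cfsg.Agent.Spor.JFour.OrderH

open Cfsg.Agent.Spor.Golay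

theorem rows0_ok : ∀ i < 4, rowOK0 i = true := by
  intro i hi
  interval_cases i
  exacts [row0_0, row0_1, row0_2, row0_3]

theorem rows1_ok : ∀ i < 18, rowOK1 i = true := by
  intro i hi
  interval_cases i
  exacts [row1_0, row1_1, row1_2, row1_3, row1_4, row1_5, row1_6, row1_7, row1_8, row1_9, row1_10, row1_11, row1_12, row1_13, row1_14, row1_15, row1_16, row1_17]

theorem rows2_ok : ∀ i < 31, rowOK2 i = true := by
  intro i hi
  interval_cases i
  exacts [row2_0, row2_1, row2_2, row2_3, row2_4, row2_5, row2_6, row2_7, row2_8, row2_9, row2_10, row2_11, row2_12, row2_13, row2_14, row2_15, row2_16, row2_17, row2_18, row2_19, row2_20, row2_21, row2_22, row2_23, row2_24, row2_25, row2_26, row2_27, row2_28, row2_29, row2_30]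

theorem cen_checks' :
    OrderT.cenOk OrderT.cen1G OrderT.cen1Os (OrderT.cen1Rows.map Prod.fst) OrderT.cen1Pos = true ∧
    OrderT.cenOk OrderT.cen2G OrderT.cen2Os (OrderT.cen2Rows.map Prod.fst) OrderT.cen2Pos = true ∧ True := by
  refine ⟨?_, ?_, trivial⟩ <;> decide +kernel

theorem cen1_all : ∀ O ∈ OrderT.cen1Os, O.ok OrderT.cen1G = true := by
  intro O hO
  simp only [OrderT.cen1Os, List.mem_cons, List.not_mem_nil, or_false] at hO
  rcases hO with rfl | rfl | rfl | rfl | rfl | rfl | rfl | rfl | rfl | rfl | rfl | rfl | rfl | rfl | rfl | rfl | rfl | rfl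
  exacts [OrderT.cen1O0_ok, OrderT.cen1O1_ok, OrderT.cen1O2_ok, OrderT.cen1O3_ok, OrderT.cen1O4_ok, OrderT.cen1O5_ok, OrderT.cen1O6_ok, OrderT.cen1O7_ok, OrderT.cen1O8_ok, OrderT.cen1O9_ok, OrderT.cen1O10_ok, OrderT.cen1O11_ok, OrderT.cen1O12_ok, OrderT.cen1O13_ok, OrderT.cen1O14_ok, OrderT.cen1O15_ok, OrderT.cen1O16_ok, OrderT.cen1O17_ok]

theorem cen2_all : ∀ O ∈ OrderT.cen2Os, O.ok OrderT.cen2G = true := by
  intro O hO
  simp only [OrderT.cen2Os, List.mem_cons, List.not_mem_nil, or_false] at hO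
  rcases hO with rfl | rfl | rfl | rfl | rfl | rfl | rfl | rfl | rfl | rfl | rfl | rfl | rfl | rfl | rfl | rfl | rfl | rfl | rfl | rfl | rfl | rfl | rfl | rfl | rfl | rfl | rfl | rfl | rfl | rfl | rfl
  exacts [OrderT.cen2O0_ok, OrderT.cen2O1_ok, OrderT.cen2O2_ok, OrderT.cen2O3_ok, OrderT.cen2O4_ok, OrderT.cen2O5_ok, OrderT.cen2O6_ok, OrderT.cen2O7_ok, OrderT.cen2O8_ok, OrderT.cen2O9_ok, OrderT.cen2O10_ok, OrderT.cen2O11_ok, OrderT.cen2O12_ok, OrderT.cen2O13_ok, OrderT.cen2O14_ok, OrderT.cen2O15_ok, OrderT.cen2O16_ok, OrderT.cen2O17_ok, OrderT.cen2O18_ok, OrderT.cen2O19_ok, OrderT.cen2O20_ok, OrderT.cen2O21_ok, OrderT.cen2O22_ok, OrderT.cen2O23_ok, OrderT.cen2O24_ok, OrderT.cen2O25_ok, OrderT.cen2O26_ok, OrderT.cen2O27_ok, OrderT.cen2O28_ok, OrderT.cen2O29_ok, OrderT.cen2O30_ok]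

theorem perm_checks : ((List.range 4).all fun i => permTo (repWords.getD i []) == OrderT.invReps.getD i 0) = true ∧
    rows0.map (fun e => permTo e.1) = (List.range 4).map (fun i => OrderT.invReps.getD i 0) ∧
    rows1.map (fun e => permTo e.1) = OrderT.cen1Rows.map Prod.fst ∧
    rows2.map (fun e => permTo e.1) = OrderT.cen2Rows.map Prod.fst := by decide +kernel

theorem row_sums : ((([1, 330, 1155, 1386] : List ℕ).zip rows0).map fun e => e.1 * e.2.2.2.2).sum = 356767488 ∧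
    ((OrderT.cen1Os.zip rows1).map fun e => e.1.n * e.2.2.2.2).sum = 1056960 ∧
    ((OrderT.cen2Os.zip rows2).map fun e => e.1.n * e.2.2.2.2).sum = 24701968 ∧
    ((List.range 3).all fun j => (invR ((repLifts.getD 3 []).getD j (4, [], [])).1).all fun b =>
      decide (4 ≤ ((repLifts.getD 3 []).getD j (4, [], [])).1) ||
        zV 0 1 0 ((repLifts.getD 3 []).getD j (4, [], [])).1 b == 0) = true := by decide +kernel

end Cfsg.Agent.Spor.JFour.OrderH
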