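import Cfsg.Agent.Lib.Spor.JFourType.OrderH.Cells
import Cfsg.Agent.Lib.Spor.JFourType.OrderH.Double
import Cfsg.Agent.Lib.Spor.JFourType.OrderH.Rows

/-!
The number of pairs of involutions from the two classes whose product has the central involution as a power.
-/

set_option autoImplicit false
set_option maxRecDepth 100000
set_option linter.style.haveILetI false

open Cfsg Cfsg.Agent.Spor.Golay
open Cfsg.Agent.Spor.Cos.J4Sub (app mm app_mm app_xor app_zero)
open scoped Pointwise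

namespace Cfsg.Agent.Spor.JFour.Frame

open OrderH
open OrderT (invSet invReps invRep)

variable {G : Type*} [Group G] {z : G} {P : Subgroup G} {S : Setting z P}

/-- The pairs counted. -/
def GoodH (Fr : Frame S) (p : G × G) : Prop :=
  IsConj z p.1 ∧ IsConj (Fr.Av 2) p.2 ∧ z ∈ Subgroup.zpowers (p.1 * p.2)

/-- The pairs over two permutations. -/
noncomputable def hCount (Fr : Frame S) (σ τ : Equiv.Perm GolayPt) : ℕ :=
  Nat.card {p : G × G // Fr.GoodH p ∧ Fr.Lies p.1 σ ∧ Fr.Lies p.2 τ}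

/-- The conjugates of the second involution over a permutation. -/
noncomputable def tCount (Fr : Frame S) (σ : Equiv.Perm GolayPt) : ℕ :=
  Nat.card {v : G // IsConj (Fr.Av 2) v ∧ Fr.Lies v σ}

open scoped _root_.Classical in
/-- The indicator of a class. -/
noncomputable def ind (x h : G) : ℕ := if IsConj x h then 1 else 0

theorem ind_pos {x h : G} (hc : IsConj x h) : ind x h = 1 := by unfold ind; rw [if_pos hc]

theorem ind_neg {x h : G} (hc : ¬ IsConj x h) : ind x h = 0 := by unfold ind; rw [if_neg hc]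

open scoped _root_.Classical in
theorem sum_ind (s : Finset G) (x : G) : ∑ h ∈ s, ind x h = (s.filter fun h => IsConj x h).card := by
  rw [Finset.card_filter]
  exact Finset.sum_congr rfl fun h _ => rfl

variable {Fr : Frame S} [Finite G]

open scoped _root_.Classical in
/-- The elements with a given vector and matrix. -/
noncomputable def cell (Fr : Frame S) (w : List ℕ) (j : ℕ) (ev : Lf) (b : ℕ) : Finset G :=
  haveI := Fintype.ofFinite G
  Finset.univ.filter fun h => ∃ π, Fr.Img h (app (evG ev.2.2) b) (OrderH.liftM w j) π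

theorem mem_cell {w : List ℕ} {j : ℕ} {ev : Lf} {b : ℕ} {h : G} :
    h ∈ Fr.cell w j ev b ↔ ∃ π, Fr.Img h (app (evG ev.2.2) b) (OrderH.liftM w j) π := by
  classical
  haveI := Fintype.ofFinite G
  simp [cell]

theorem invR_nodup {r : ℕ} (hr : r < 4) : (invR r).Nodup := by
  rw [← beq_iff_eq.1 (List.all_eq_true.1 inv_table r (List.mem_range.2 hr))]
  exact List.nodup_range.filter _

theorem invR_lt {r b : ℕ} (hr : r < 4) (hb : b ∈ invR r) : b < 4096 := ((mem_invR hr).1 hb).1

open scoped _root_.Classical in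
/-- A sum over the elements over a word by the cells. -/
theorem lies_sum [Fintype G] (K : Fr.Kap) {w : List ℕ} {E : List Lf} (hE : liftsOK w E = true) (f : G → ℕ)
    (hf : ∀ h, f h ≠ 0 → h * h = 1) :
    ∑ h ∈ Finset.univ.filter (fun h => Fr.Lies h (permOf (permTo w))), f h =
      ∑ j ∈ Finset.range 3, if (E.getD j (4, [], [])).1 < 4 then
        ∑ b ∈ (invR (E.getD j (4, [], [])).1).toFinset, ∑ h ∈ Fr.cell w j (E.getD j (4, [], [])) b, f h else 0 := by
  have hw : wordsOK w = true := by rw [liftsOK, Bool.and_eq_true] at hE; exact hE.1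
  set J := (Finset.range 3).sigma fun j =>
    if (E.getD j (4, [], [])).1 < 4 then (invR (E.getD j (4, [], [])).1).toFinset else ∅ with hJ
  have hR : (∑ j ∈ Finset.range 3, if (E.getD j (4, [], [])).1 < 4 then
        ∑ b ∈ (invR (E.getD j (4, [], [])).1).toFinset, ∑ h ∈ Fr.cell w j (E.getD j (4, [], [])) b, f h else 0) =
      ∑ e ∈ J, ∑ h ∈ Fr.cell w e.1 (E.getD e.1 (4, [], [])) e.2, f h := by
    rw [hJ, Finset.sum_sigma]
    exact Finset.sum_congr rfl fun j _ => by split_ifs <;> simp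
  rw [hR, ← Finset.sum_biUnion]
  · refine (Finset.sum_subset (fun h hh => ?_) fun h hh hn => ?_).symm
    · simp only [Finset.mem_biUnion, mem_cell, hJ, Finset.mem_sigma, Finset.mem_range] at hh
      obtain ⟨⟨j, b⟩, ⟨hj, -⟩, π, hπ⟩ := hh
      refine Finset.mem_filter.2 ⟨Finset.mem_univ _, _, _, π, hπ, ?_⟩
      rw [lift_perm hw hj hπ, wordP_to]
    · by_contra hne
      obtain ⟨j, hj, h4, b, hb, π, hπ⟩ := lift_cover K hE (Finset.mem_filter.1 hh).2 (hf h hne)
      refine hn (Finset.mem_biUnion.2 ⟨⟨j, b⟩, ?_, mem_cell.2 ⟨π, hπ⟩⟩)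
      rw [hJ, Finset.mem_sigma]
      exact ⟨Finset.mem_range.2 hj, by rw [if_pos h4]; exact List.mem_toFinset.2 hb⟩
  · rintro ⟨i, b⟩ hi ⟨j, c⟩ hj hne
    refine Finset.disjoint_left.2 fun h h1 h2 => hne ?_
    obtain ⟨π, h1⟩ := mem_cell.1 h1
    obtain ⟨ρ, h2⟩ := mem_cell.1 h2
    simp only [hJ, Finset.mem_coe, Finset.mem_sigma, Finset.mem_range] at hi hj
    obtain ⟨e1, e2, -⟩ := h1.unique h2
    obtain rfl := liftM_inj Fr hw hi.1 hj.1 e2
    have h4 : (E.getD i (4, [], [])).1 < 4 := by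
      by_contra h4
      rw [if_neg h4] at hi
      exact absurd hi.2 (Finset.notMem_empty _)
    rw [if_pos h4, List.mem_toFinset] at hi hj
    obtain ⟨-, -, -, -, hinv⟩ := (lift_spec' Fr hE hi.1).2.1 h4
    have e3 := congrArg (app (evG (E.getD i (4, [], [])).2.1)) e1
    rw [hinv b (invR_lt h4 hi.2), hinv c (invR_lt h4 hj.2)] at e3
    rw [e3]

open scoped _root_.Classical in
theorem cell_conj_sum {w : List ℕ} {E : List Lf} (hE : liftsOK w E = true) {j : ℕ} (hj : j < 3)
    (h4 : (E.getD j (4, [], [])).1 < 4) {b : ℕ} (hb : b ∈ invR (E.getD j (4, [], [])).1) (x : G) :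
    ∑ h ∈ Fr.cell w j (E.getD j (4, [], [])) b, ind x h =
      Fr.clN x b (repM (E.getD j (4, [], [])).1) := by
  haveI := Fintype.ofFinite G
  obtain ⟨hok, hs, -⟩ := lift_spec' Fr hE hj
  obtain ⟨-, hwit, hGi, -, hfor⟩ := hs h4
  simp only [witOK, Bool.and_eq_true, decide_eq_true_eq, beq_iff_eq] at hwit
  obtain ⟨⟨hg, hr⟩, e⟩ := hwit
  have hb' := invR_lt h4 hb
  have hlt : app (evG (E.getD j (4, [], [])).2.2) b < 4096 := app_lt_of_ok (evG_ok (Fr := Fr) hGi).2.ok b
  have h := clN_word (Fr := Fr) hg hok (Fr.repE_ok _).1 e hlt x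
  rw [hfor b hb'] at h
  rw [h, clN, Nat.card_eq_fintype_card, Fintype.card_subtype, sum_ind]
  congr 1
  ext h
  simp [mem_cell]

theorem list_sum_toFinset {L : List ℕ} (h : L.Nodup) (g : ℕ → ℕ) : ∑ b ∈ L.toFinset, g b = (L.map g).sum :=
  List.sum_toFinset g h

/-- The conjugates of the second involution over a word. -/
theorem tCount_eq (K : Fr.Kap) (D : Fr.Duadic) (hfus : Fr.Classes) {w : List ℕ} {E : List Lf}
    (hE : liftsOK w E = true) : Fr.tCount (permOf (permTo w)) = tTot (Fr.par 1) (Fr.par 2) (Fr.par 3) E := by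
  classical
  haveI := Fintype.ofFinite G
  have h1 : Fr.tCount (permOf (permTo w)) =
      ∑ h ∈ Finset.univ.filter (fun h => Fr.Lies h (permOf (permTo w))), ind (Fr.Av 2) h := by
    rw [tCount, Nat.card_eq_fintype_card, Fintype.card_subtype, sum_ind, Finset.filter_filter]
    congr 1
    ext h
    simp [and_comm]
  rw [h1, lies_sum K hE _ fun h hh => conj_sq (Fr.Av_sq (by norm_num)) (by_contra fun hc => hh (ind_neg hc)), tTot,
    Finset.sum_eq_multiset_sum, Finset.range_val, ← Multiset.coe_range, Multiset.map_coe, Multiset.sum_coe]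
  refine congrArg List.sum (List.map_congr_left fun j hj => ?_)
  rw [List.mem_range] at hj
  by_cases h4 : (E.getD j (4, [], [])).1 < 4
  · rw [if_pos h4, if_neg (by simp only [decide_eq_true_eq]; omega), list_sum_toFinset (invR_nodup h4)]
    refine congrArg List.sum (List.map_congr_left fun b hb => ?_)
    rw [cell_conj_sum hE hj h4 hb, clN_t K D hfus h4 hb]
  · rw [if_neg h4, if_pos (by simp only [decide_eq_true_eq]; omega)]

theorem mem_lies (hz : ∀ {p : G × G}, Fr.GoodH p → p.1 * z = z * p.1 ∧ p.2 * z = z * p.2) {p : G × G}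
    (hp : Fr.GoodH p) : ∃ σ ∈ invSet, ∃ τ ∈ invSet, Fr.Lies p.1 σ ∧ Fr.Lies p.2 τ := by
  obtain ⟨σ, hσ⟩ := Fr.exists_lies (hz hp).1
  obtain ⟨τ, hτ⟩ := Fr.exists_lies (hz hp).2
  exact ⟨σ, hσ.mem_invSet (conj_sq S.zz hp.1), τ,
    hτ.mem_invSet (conj_sq (Fr.Av_sq (by norm_num)) hp.2.1), hσ, hτ⟩

theorem good_comm {p : G × G} (hp : Fr.GoodH p) : p.1 * z = z * p.1 ∧ p.2 * z = z * p.2 := by
  obtain ⟨hu, hv, hw⟩ := hp
  have h1 := conj_sq S.zz hu
  have h2 := conj_sq (Fr.Av_sq (by norm_num)) hv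
  obtain ⟨j, hj⟩ := Subgroup.mem_zpowers_iff.1 hw
  have hzi : z⁻¹ = z := inv_eq_of_mul_eq_one_right S.zz
  have key : ∀ x : G, x * (p.1 * p.2) * x⁻¹ = (p.1 * p.2)⁻¹ → x * z = z * x := by
    intro x e
    rw [← mul_inv_eq_iff_eq_mul]
    conv_lhs => rw [← hj, ← conj_zpow, e, inv_zpow, hj, hzi]
  refine ⟨key _ (S3313.conj_involution_product _ _ h1 h2), key _ ?_⟩
  rw [mul_inv_rev, inv_eq_of_mul_eq_one_right h1, inv_eq_of_mul_eq_one_right h2]
  calc p.2 * (p.1 * p.2) * p.2 = p.2 * p.1 * (p.2 * p.2) := by group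
    _ = _ := by rw [h2, mul_one]

/-- The count as a sum over pairs of permutations. -/
theorem card_good (Fr : Frame S) :
    Nat.card {p : G × G // Fr.GoodH p} = ∑ σ ∈ invSet, ∑ τ ∈ invSet, Fr.hCount σ τ := by
  classical
  haveI := Fintype.ofFinite G
  have hc : ∀ σ τ, Fr.hCount σ τ =
      (Finset.univ.filter fun p : G × G => Fr.GoodH p ∧ Fr.Lies p.1 σ ∧ Fr.Lies p.2 τ).card := fun σ τ => by
    rw [hCount, Nat.card_eq_fintype_card, Fintype.card_subtype]
  rw [Finset.sum_congr rfl fun σ _ => Finset.sum_congr rfl fun τ _ => hc σ τ, ← Finset.sum_product',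
    ← Finset.card_biUnion, Nat.card_eq_fintype_card, Fintype.card_subtype]
  · congr 1
    ext p
    simp only [Finset.mem_filter, Finset.mem_univ, true_and, Finset.mem_biUnion, Finset.mem_product]
    refine ⟨fun hp => ?_, fun ⟨_, _, h, _⟩ => h⟩
    obtain ⟨σ, hσ, τ, hτ, h⟩ := mem_lies good_comm hp
    exact ⟨(σ, τ), ⟨hσ, hτ⟩, hp, h⟩
  · rintro ⟨a, b⟩ - ⟨a', b'⟩ - hne
    refine Finset.disjoint_left.2 fun p h1 h2 => hne ?_
    simp only [Finset.mem_filter, Finset.mem_univ, true_and] at h1 h2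
    exact Prod.ext (h1.2.1.unique h2.2.1) (h1.2.2.unique h2.2.2)

theorem lies_conj_iff {n : G} {g : Equiv.Perm GolayPt} (hn : Fr.Lies n g) (h : G) (σ : Equiv.Perm GolayPt) :
    Fr.Lies (n * h * n⁻¹) (g * σ * g⁻¹) ↔ Fr.Lies h σ := by
  refine ⟨fun hh => ?_, fun hh => hn.conj hh⟩
  obtain ⟨τ, hτ⟩ := Fr.exists_lies (h := h) (by
    have h1 : Commute n z := hn.hz
    have h2 : Commute (n * h * n⁻¹) z := hh.hz
    have h3 : Commute (n⁻¹ * (n * h * n⁻¹) * n) z := (h1.inv_left.mul_left h2).mul_left h1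
    rwa [show n⁻¹ * (n * h * n⁻¹) * n = h by group] at h3)
  have e := (hn.conj hτ).unique hh
  rwa [mul_left_cancel (mul_right_cancel e)] at hτ

theorem tCount_conj {g σ : Equiv.Perm GolayPt} (hg : g ∈ Census.Fx [[3]]) :
    Fr.tCount (g * σ * g⁻¹) = Fr.tCount σ := by
  obtain ⟨hgm, hgp⟩ := OrderT.mem_Fx_pair.1 hg
  obtain ⟨n, hn⟩ := Fr.lies_surj hgm hgp
  refine (Nat.card_congr (Equiv.subtypeEquiv (MulAut.conj n).toEquiv fun v => ?_)).symm
  show _ ↔ IsConj _ (n * v * n⁻¹) ∧ Fr.Lies (n * v * n⁻¹) _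
  have hc : IsConj v (n * v * n⁻¹) := isConj_iff.2 ⟨n, rfl⟩
  exact and_congr ⟨fun h => h.trans hc, fun h => h.trans hc.symm⟩ (lies_conj_iff hn v σ).symm

theorem hCount_conj {g σ τ : Equiv.Perm GolayPt} (hg : g ∈ Census.Fx [[3]]) :
    Fr.hCount (g * σ * g⁻¹) (g * τ * g⁻¹) = Fr.hCount σ τ := by
  obtain ⟨hgm, hgp⟩ := OrderT.mem_Fx_pair.1 hg
  obtain ⟨n, hn⟩ := Fr.lies_surj hgm hgp
  refine (Nat.card_congr (Equiv.subtypeEquiv
    (Equiv.prodCongr (MulAut.conj n).toEquiv (MulAut.conj n).toEquiv) fun p => ?_)).symm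
  show _ ↔ Fr.GoodH (n * p.1 * n⁻¹, n * p.2 * n⁻¹) ∧ Fr.Lies (n * p.1 * n⁻¹) _ ∧ Fr.Lies (n * p.2 * n⁻¹) _
  have hc : ∀ x y : G, IsConj x (n * y * n⁻¹) ↔ IsConj x y := fun x y =>
    ⟨fun h => h.trans (isConj_iff.2 ⟨n, rfl⟩ : IsConj y (n * y * n⁻¹)).symm,
      fun h => h.trans (isConj_iff.2 ⟨n, rfl⟩ : IsConj y (n * y * n⁻¹))⟩
  refine and_congr ?_ (and_congr (lies_conj_iff hn _ σ).symm (lies_conj_iff hn _ τ).symm)
  unfold GoodH
  rw [hc, hc, show n * p.1 * n⁻¹ * (n * p.2 * n⁻¹) = n * (p.1 * p.2) * n⁻¹ by group]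
  refine and_congr_right fun _ => and_congr_right fun _ => ?_
  have hz : n * z * n⁻¹ = z := by rw [hn.hz, mul_inv_cancel_right]
  constructor
  · intro h
    obtain ⟨j, hj⟩ := Subgroup.mem_zpowers_iff.1 h
    exact Subgroup.mem_zpowers_iff.2 ⟨j, by rw [conj_zpow, hj, hz]⟩
  · intro h
    obtain ⟨j, hj⟩ := Subgroup.mem_zpowers_iff.1 h
    rw [conj_zpow, ← hz] at hj
    exact Subgroup.mem_zpowers_iff.2 ⟨j, mul_left_cancel (mul_right_cancel hj)⟩

open scoped _root_.Classical in
theorem hCount_sum [Fintype G] (Fr : Frame S) (σ τ : Equiv.Perm GolayPt) :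
    Fr.hCount σ τ = ∑ u ∈ Finset.univ.filter (fun h => Fr.Lies h σ),
      ∑ v ∈ Finset.univ.filter (fun h => Fr.Lies h τ), if Fr.GoodH (u, v) then 1 else 0 := by
  rw [← Finset.sum_product', Finset.sum_boole, Nat.cast_id, hCount, Nat.card_eq_fintype_card, Fintype.card_subtype]
  congr 1
  ext p
  simp [and_comm]

/-- The value of a row. -/
theorem hCount_eq (K : Fr.Kap) (D : Fr.Duadic) (hfus : Fr.Classes)
    (hp : Fr.par 1 = 0 ∧ Fr.par 2 = 1 ∧ Fr.par 3 = 0) {wp wq : List ℕ} {EP EQ : List Lf}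
    (hP : liftsOK wp EP = true) {I : List (ℕ × ℕ × List ℕ)} {c : ℕ} (h : pairOK wp wq EP EQ I c = true) :
    Fr.hCount (permOf (permTo wp)) (permOf (permTo wq)) = c := by
  classical
  haveI := Fintype.ofFinite G
  simp only [pairOK, Bool.and_eq_true, List.all_eq_true, List.mem_range, Bool.or_eq_true, decide_eq_true_eq,
    beq_iff_eq] at h
  obtain ⟨⟨hQ, hinfo⟩, hc⟩ := h
  rw [hCount_sum, lies_sum K hP (fun u => ∑ v ∈ _, if Fr.GoodH (u, v) then 1 else 0) fun u hu => ?_, ← hc,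
    Finset.sum_eq_multiset_sum, Finset.range_val, ← Multiset.coe_range, Multiset.map_coe, Multiset.sum_coe]
  swap
  · obtain ⟨v, -, hv⟩ := Finset.exists_ne_zero_of_sum_ne_zero hu
    exact conj_sq S.zz (by_contra fun hn => hv (if_neg fun hg => hn hg.1))
  refine congrArg List.sum (List.map_congr_left fun i hi => ?_)
  rw [List.mem_range] at hi
  set eu := EP.getD i (4, [], []) with heu
  by_cases hi4 : eu.1 < 4
  swap
  · rw [if_neg hi4]
    refine (List.sum_eq_zero ?_).symm
    intro x hx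
    obtain ⟨j, -, rfl⟩ := List.mem_map.1 hx
    rw [if_pos]
    exact Or.inl (by omega)
  rw [if_pos hi4]
  have hv : ∀ b ∈ (invR eu.1).toFinset, (∑ u ∈ Fr.cell wp i eu b,
      ∑ v ∈ Finset.univ.filter (fun h => Fr.Lies h (permOf (permTo wq))), if Fr.GoodH (u, v) then 1 else 0) =
      ∑ j ∈ Finset.range 3, if (EQ.getD j (4, [], [])).1 < 4 then
        ∑ b' ∈ (invR (EQ.getD j (4, [], [])).1).toFinset, ∑ u ∈ Fr.cell wp i eu b,
          ∑ v ∈ Fr.cell wq j (EQ.getD j (4, [], [])) b', (if Fr.GoodH (u, v) then 1 else 0) else 0 := by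
    intro b _
    rw [Finset.sum_congr rfl fun u _ => lies_sum K hQ (fun v => if Fr.GoodH (u, v) then 1 else 0) fun v hv =>
      conj_sq (Fr.Av_sq (by norm_num)) (by_contra fun hn => hv (if_neg fun hg => hn hg.2.1)), Finset.sum_comm]
    refine Finset.sum_congr rfl fun j _ => ?_
    split_ifs
    · rw [Finset.sum_comm]
    · simp
  rw [Finset.sum_congr rfl hv, Finset.sum_comm, Finset.sum_eq_multiset_sum, Finset.range_val,
    ← Multiset.coe_range, Multiset.map_coe, Multiset.sum_coe]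
  refine congrArg List.sum (List.map_congr_left fun j hj => ?_)
  rw [List.mem_range] at hj
  set ev := EQ.getD j (4, [], []) with hev
  by_cases hj4 : ev.1 < 4
  swap
  · rw [if_pos (Or.inr (by omega))]
    exact Finset.sum_eq_zero fun b _ => if_neg hj4
  have hI : infoOK (mm (OrderH.liftM wp i) (OrderH.liftM wq j)) (I.getD (3 * i + j) (0, 4, [])) = true :=
    (hinfo i hi j hj).resolve_left (by rintro (h' | h') <;> simp only [heu, hev] at hi4 hj4 <;> omega)
  simp only [if_pos hj4]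
  rw [if_neg (by rintro (h' | h') <;> omega)]
  set e := I.getD (3 * i + j) (0, 4, []) with he
  rw [termN, outer_keys, list_sum_toFinset (invR_nodup hi4)]
  refine congrArg List.sum (List.map_congr_left fun b hb => ?_)
  rw [list_sum_toFinset (invR_nodup hj4)]
  refine congrArg List.sum (List.map_congr_left fun b' hb' => ?_)
  obtain ⟨p1, p2, p3⟩ := hp
  have hz0 : Fr.clN z b (repM eu.1) = zV 0 1 0 eu.1 b := by rw [clN_z hfus hi4 hb, p1, p2, p3]
  have ht0 : Fr.clN (Fr.Av 2) b' (repM ev.1) = tV 0 1 0 ev.1 b' := by rw [clN_t K D hfus hj4 hb', p1, p2, p3]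
  simp only [app_mm]
  set ok := okP (Nat.beq (e.1 % 2) 1) (Nat.blt e.2.1 2)
    (app (osM (mm (OrderH.liftM wp i) (OrderH.liftM wq j)) e.1) (app (evG eu.2.2) b))
    (app (osM (mm (OrderH.liftM wp i) (OrderH.liftM wq j)) (e.1 / 2)) (app (evG eu.2.2) b))
    (app (osM (mm (OrderH.liftM wp i) (OrderH.liftM wq j)) e.1) (app (OrderH.liftM wp i) (app (evG ev.2.2) b')))
    (app (osM (mm (OrderH.liftM wp i) (OrderH.liftM wq j)) (e.1 / 2)) (app (OrderH.liftM wp i) (app (evG ev.2.2) b')))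
    with hok
  have hcell : ∀ u ∈ Fr.cell wp i eu b, ∀ v ∈ Fr.cell wq j ev b', (if Fr.GoodH (u, v) then 1 else 0) =
      ind z u * (if ok = true then ind (Fr.Av 2) v else 0) := by
    intro u hu v hv'
    obtain ⟨π, hu'⟩ := mem_cell.1 hu
    obtain ⟨ρ, hv''⟩ := mem_cell.1 hv'
    by_cases cu : IsConj z u
    · by_cases cv : IsConj (Fr.Av 2) v
      · have hg := good_iff K hfus hu' hv'' cu cv hI
        rw [ind_pos cu, ind_pos cv, one_mul]
        exact if_congr ⟨fun h => hg.1 h.2.2, fun h => ⟨cu, cv, hg.2 h⟩⟩ rfl rfl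
      · rw [if_neg fun h => cv h.2.1, ind_neg cv, ite_self, mul_zero]
    · rw [if_neg fun h => cu h.1, ind_neg cu, zero_mul]
  rw [Finset.sum_congr rfl fun u hu => Finset.sum_congr rfl fun v hv' => hcell u hu v hv', ← Finset.sum_mul_sum,
    cell_conj_sum hP hi hi4 hb, hz0]
  congr 1
  cases ok
  · simp
  · simp only [↓reduceIte]
    rw [cell_conj_sum hQ hj hj4 hb', ht0]

/-- The parameters. -/
theorem par_eq (K : Fr.Kap) (D : Fr.Duadic) (hfus : Fr.Classes)
    (hH : Nat.card ↥(Subgroup.centralizer ({z} : Set G)) = 21799895040)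
    (hC : Nat.card ↥(Subgroup.centralizer ({Fr.Av 2} : Set G)) = 1816657920) :
    Fr.par 1 = 0 ∧ Fr.par 2 = 1 ∧ Fr.par 3 = 0 := by
  classical
  haveI := Fintype.ofFinite G
  have hY : Nat.card {v : G // IsConj (Fr.Av 2) v ∧ v * z = z * v} = 838596 := by
    have h := exchange z (Fr.Av 2)
    rw [hH, hC, K.card_commuting_eq D hfus] at h
    omega
  have hsum : Nat.card {v : G // IsConj (Fr.Av 2) v ∧ v * z = z * v} = ∑ σ ∈ invSet, Fr.tCount σ := by
    have hc : ∀ σ, Fr.tCount σ = (Finset.univ.filter fun v : G => IsConj (Fr.Av 2) v ∧ Fr.Lies v σ).card :=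
      fun σ => by rw [tCount, Nat.card_eq_fintype_card, Fintype.card_subtype]
    rw [Finset.sum_congr rfl fun σ _ => hc σ, ← Finset.card_biUnion, Nat.card_eq_fintype_card, Fintype.card_subtype]
    · congr 1
      ext v
      simp only [Finset.mem_filter, Finset.mem_univ, true_and, Finset.mem_biUnion]
      refine ⟨fun hv => ?_, fun ⟨_, _, h, h'⟩ => ⟨h, h'.hz⟩⟩
      obtain ⟨σ, hσ⟩ := Fr.exists_lies hv.2
      exact ⟨σ, hσ.mem_invSet (conj_sq (Fr.Av_sq (by norm_num)) hv.1), hv.1, hσ⟩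
    · intro a _ b _ hne
      refine Finset.disjoint_left.2 fun v h1 h2 => hne ?_
      simp only [Finset.mem_filter, Finset.mem_univ, true_and] at h1 h2
      exact h1.2.unique h2.2
  have hrep : ∀ i < 4, Fr.tCount (permOf (invReps.getD i 0)) =
      tTot (Fr.par 1) (Fr.par 2) (Fr.par 3) (repLifts.getD i []) := fun i hi => by
    have h := List.all_eq_true.1 perm_checks.1 i (List.mem_range.2 hi)
    rw [← beq_iff_eq.1 h]
    exact tCount_eq K D hfus (List.all_eq_true.1 rep_lifts.2 i (List.mem_range.2 hi))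
  rw [hsum, OrderT.sum_classes _ fun g hg τ _ => tCount_conj hg] at hY
  change Fr.tCount (permOf (invReps.getD 0 0)) + 330 * Fr.tCount (permOf (invReps.getD 1 0)) +
    1155 * Fr.tCount (permOf (invReps.getD 2 0)) + 1386 * Fr.tCount (permOf (invReps.getD 3 0)) = _ at hY
  rw [hrep 0 (by norm_num), hrep 1 (by norm_num), hrep 2 (by norm_num), hrep 3 (by norm_num)] at hY
  obtain ⟨l1, l2, l3⟩ := par_le (Fr := Fr)
  have h := List.all_eq_true.1 (List.all_eq_true.1 (List.all_eq_true.1 two_totals _ (List.mem_range.2 l1)) _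
    (List.mem_range.2 l2)) _ (List.mem_range.2 l3)
  rw [decide_eq_true hY, beq_iff_eq, eq_comm] at h
  simpa [Bool.and_eq_true, and_assoc] using h

theorem hCount_zero (K : Fr.Kap) (hfus : Fr.Classes) (hp : Fr.par 1 = 0 ∧ Fr.par 2 = 1 ∧ Fr.par 3 = 0)
    (τ : Equiv.Perm GolayPt) : Fr.hCount (permOf (invReps.getD 3 0)) τ = 0 := by
  classical
  haveI := Fintype.ofFinite G
  have hz := List.all_eq_true.1 rep_lifts.2 3 (by simp)
  rw [← beq_iff_eq.1 (List.all_eq_true.1 perm_checks.1 3 (by simp)), hCount_sum,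
    lies_sum K hz (fun u => ∑ v ∈ _, if Fr.GoodH (u, v) then 1 else 0) fun u hu => ?_]
  swap
  · obtain ⟨v, -, hv⟩ := Finset.exists_ne_zero_of_sum_ne_zero hu
    exact conj_sq S.zz (by_contra fun hn => hv (if_neg fun hg => hn hg.1))
  refine Finset.sum_eq_zero fun j hj => ?_
  rw [Finset.mem_range] at hj
  split_ifs with h4
  · refine Finset.sum_eq_zero fun b hb => ?_
    rw [List.mem_toFinset] at hb
    have h := List.all_eq_true.1 (List.all_eq_true.1 row_sums.2.2.2 j (List.mem_range.2 hj)) b hb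
    simp only [Bool.or_eq_true, decide_eq_true_eq, beq_iff_eq] at h
    have h0 := cell_conj_sum (Fr := Fr) hz hj h4 hb z
    rw [clN_z hfus h4 hb, hp.1, hp.2.1, hp.2.2, h.resolve_left (by omega), Finset.sum_eq_zero_iff] at h0
    refine Finset.sum_eq_zero fun u hu => Finset.sum_eq_zero fun v _ => if_neg fun hg => ?_
    have := h0 u hu
    rw [ind_pos hg.1] at this
    exact one_ne_zero this
  · rfl

/-- A sum over a centraliser's rows. -/
theorem inner_sum_h {L : List ℕ} {gens : List ℕ} {n : ℕ} (hS : Census.Stage (L :: [[3]]) gens n) {Pp : ℕ}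
    (hPp : Census.fam L = OrderT.moved (permOf Pp)) (hPi : permOf Pp ∈ invSet) {Os : List Census.Orb}
    {Qs : List ℕ} {Pos : List ℕ} {Vs : List ℕ} (hok : ∀ O ∈ Os, O.ok gens = true)
    (hc : OrderT.cenOk gens Os Qs Pos = true) (hv : ∀ e ∈ Qs.zip Vs, Fr.hCount (permOf Pp) (permOf e.1) = e.2)
    (hlen : Qs.length = Vs.length) :
    ∑ τ ∈ invSet, Fr.hCount (permOf Pp) τ = ((Os.zip Vs).map fun e => e.1.n * e.2).sum := by
  rw [OrderT.sum_centraliser hS (OrderT.fx_cen_le L) hok hc (fun τ => Fr.hCount (permOf Pp) τ) fun g hg τ _ => ?_]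
  · congr 1
    refine List.ext_getElem (by simp [hlen]) fun i h1 h2 => ?_
    simp only [List.length_map, List.length_zip, lt_min_iff] at h1 h2
    simp only [List.getElem_map, List.getElem_zip]
    rw [hv (Qs[i], Vs[i]) (List.mem_iff_getElem.2 ⟨i, by simp [h1.2, h2.2], by simp⟩)]
  · obtain ⟨-, hfix⟩ := Census.mem_Fx.1 hg
    have hgσ : g * permOf Pp * g⁻¹ = permOf Pp := by
      refine OrderT.moved_inj ?_ (OrderT.mem_invSet.1 hPi).2.1 ?_
      · rw [show g * permOf Pp * g⁻¹ * (g * permOf Pp * g⁻¹) = g * (permOf Pp * permOf Pp) * g⁻¹ by group,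
          (OrderT.mem_invSet.1 hPi).2.1, mul_one, mul_inv_cancel]
      · rw [← OrderT.smul_moved, ← hPp]
        exact hfix L (List.mem_cons_self ..)
    conv_lhs => rw [← hgσ]
    exact hCount_conj (OrderT.fx_cen_le L hg)

theorem rows0_vals : OrderH.rows0.map (fun e => e.2.2.2) = [1951488, 0, 12288, 245760] := by decide +kernel

theorem cen_lens : (OrderT.cen1Rows.map Prod.fst).length = (OrderH.rows1.map fun e => e.2.2.2).length ∧
    (OrderT.cen2Rows.map Prod.fst).length = (OrderH.rows2.map fun e => e.2.2.2).length := by decide +kernel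

open OrderT in
/-- The count. -/
theorem card_good_eq (K : Fr.Kap) (D : Fr.Duadic) (hfus : Fr.Classes)
    (hp : Fr.par 1 = 0 ∧ Fr.par 2 = 1 ∧ Fr.par 3 = 0) : Nat.card {p : G × G // Fr.GoodH p} = 29236337328 := by
  have hperm : ∀ i < 4, permTo (repWords.getD i []) = invReps.getD i 0 := fun i hi =>
    beq_iff_eq.1 (List.all_eq_true.1 perm_checks.1 i (List.mem_range.2 hi))
  have hlift : ∀ i < 4, liftsOK (repWords.getD i []) (repLifts.getD i []) = true := fun i hi =>
    List.all_eq_true.1 rep_lifts.2 i (List.mem_range.2 hi)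
  obtain ⟨-, q0, q1, q2⟩ := perm_checks
  obtain ⟨s0, s1, s2, -⟩ := row_sums
  obtain ⟨c1, c2, -⟩ := cen_checks'
  rw [card_good, sum_classes]
  · have hrow : ∀ i < 4, ∀ (R : List (List ℕ × List Lf × List (ℕ × ℕ × List ℕ) × ℕ)),
        (∀ t < R.length, pairOK (repWords.getD i []) (R.getD t ([], [], [], 0)).1 (repLifts.getD i [])
          (R.getD t ([], [], [], 0)).2.1 (R.getD t ([], [], [], 0)).2.2.1 (R.getD t ([], [], [], 0)).2.2.2 = true) →
        ∀ e ∈ (R.map fun e => permTo e.1).zip (R.map fun e => e.2.2.2),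
          Fr.hCount (permOf (invReps.getD i 0)) (permOf e.1) = e.2 := fun i hi R hR e he => by
      obtain ⟨t, ht, rfl⟩ := List.mem_iff_getElem.1 he
      simp only [List.length_zip, List.length_map, Nat.min_self] at ht
      have h := hR t ht
      rw [List.getD_eq_getElem _ _ ht] at h
      simp only [List.getElem_zip, List.getElem_map]
      rw [← hperm i hi]
      exact hCount_eq K D hfus hp (hlift i hi) h
    have r1 := repOk_spec (invRep_spec 1)
    have r2 := repOk_spec (invRep_spec 2)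
    have h0 : ∑ τ ∈ invSet, Fr.hCount (permOf (invReps.getD 0 0)) τ = 356767488 := by
      have he : permOf (invReps.getD 0 0) = 1 := by
        rw [show invReps.getD 0 0 = idP by decide +kernel, permOf_idP]
      rw [sum_classes _ fun g hg τ _ => ?_]
      · have hr := hrow 0 (by norm_num) rows0 fun t ht => rows0_ok t ht
        rw [q0, rows0_vals] at hr
        have g0 := hr (invReps.getD 0 0, 1951488) (by simp [List.range_succ])
        have g1 := hr (invReps.getD 1 0, 0) (by simp [List.range_succ])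
        have g2 := hr (invReps.getD 2 0, 12288) (by simp [List.range_succ])
        have g3 := hr (invReps.getD 3 0, 245760) (by simp [List.range_succ])
        show Fr.hCount _ (permOf (invReps.getD 0 0)) + 330 * Fr.hCount _ (permOf (invReps.getD 1 0)) +
          1155 * Fr.hCount _ (permOf (invReps.getD 2 0)) + 1386 * Fr.hCount _ (permOf (invReps.getD 3 0)) = _
        rw [g0, g1, g2, g3]
        norm_num
      · conv_lhs => rw [show permOf (invReps.getD 0 0) = g * permOf (invReps.getD 0 0) * g⁻¹ by rw [he]; group]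
        exact hCount_conj hg
    have h1 := inner_sum_h (Fr := Fr) stageCen1 r1.2 r1.1 (fun O hO => cen1_all O hO) c1
      (Vs := rows1.map fun e => e.2.2.2)
      (q1 ▸ hrow 1 (by norm_num) rows1 fun t ht => rows1_ok t ht) cen_lens.1
    have h2 := inner_sum_h (Fr := Fr) stageCen2 r2.2 r2.1 (fun O hO => cen2_all O hO) c2
      (Vs := rows2.map fun e => e.2.2.2)
      (q2 ▸ hrow 2 (by norm_num) rows2 fun t ht => rows2_ok t ht) cen_lens.2
    rw [List.zip_map_right, List.map_map] at h1 h2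
    change ∑ τ ∈ invSet, Fr.hCount (permOf (invReps.getD 0 0)) τ +
      330 * ∑ τ ∈ invSet, Fr.hCount (permOf (invRep 1)) τ + 1155 * ∑ τ ∈ invSet, Fr.hCount (permOf (invRep 2)) τ +
      1386 * ∑ τ ∈ invSet, Fr.hCount (permOf (invReps.getD 3 0)) τ = _
    rw [h0, h1, h2, Finset.sum_eq_zero fun τ _ => hCount_zero K hfus hp τ]
    simp only [Function.comp_def, Prod.map_fst, Prod.map_snd, id_eq]
    rw [s1, s2]
    try norm_num
  · intro g hg σ _
    show ∑ τ ∈ invSet, Fr.hCount (g * σ * g⁻¹) τ = ∑ τ ∈ invSet, Fr.hCount σ τ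
    refine Finset.sum_bij' (fun τ _ => g⁻¹ * τ * g) (fun τ _ => g * τ * g⁻¹) (fun τ hτ => ?_) (fun τ hτ => ?_)
      (fun τ _ => by group) (fun τ _ => by group) fun τ _ => ?_
    · have := conj_mem_invSet (inv_mem hg) hτ
      simpa using this
    · exact conj_mem_invSet hg hτ
    · conv_lhs => rw [show τ = g * (g⁻¹ * τ * g) * g⁻¹ by group]
      exact hCount_conj hg

end Cfsg.Agent.Spor.JFour.Frame
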