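import Cfsg.Agent.Lib.Spor.JFourType.OrderH.Img
import Cfsg.Agent.Lib.Spor.JFourType.OrderH.ClassTables

/-!
The counts in the affine coordinates of the centraliser, as computations.
-/

set_option autoImplicit false
set_option maxRecDepth 100000

namespace Cfsg.Agent.Spor.JFour.OrderH

open Cfsg.Agent.Spor.Golay
open Cfsg.Agent.Spor.Cos.J4Sub (app mm)
open OrderT (orbSum)

/-- The matrix of a word. -/
def evG (w : List ℕ) : List ℕ := evM gM w

/-- The three matrices over a word. -/
def liftM (w : List ℕ) (j : ℕ) : List ℕ := mm (mTp j) (evG w)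

/-- Words of the representatives of the four classes. -/
def repW : ℕ → List ℕ
  | 1 => [0]
  | 2 => [9]
  | 3 => [9, 6, 4, 4, 0]
  | _ => []

/-- Their matrices. -/
def repM (r : ℕ) : List ℕ := evG (repW r)

/-- A word in the generators. -/
def wordsOK (w : List ℕ) : Bool := w.all fun k => decide (k < 10)

/-- A conjugation to a representative. -/
def witOK (M : List ℕ) (r : ℕ) (g : List ℕ) : Bool :=
  wordsOK g && decide (r < 4) && (mm (evG g) M == mm (repM r) (evG g))

/-- The lifts of an involution: class and conjugating words, or class four if it is none. -/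
abbrev Lf : Type := ℕ × List ℕ × List ℕ

/-- Correctness of a lift. -/
def liftOK (M : List ℕ) (e : Lf) : Bool :=
  if e.1 < 4 then
    (mm M M == mI) && witOK M e.1 e.2.1 && wordsOK e.2.2 && (mm (evG e.2.2) (evG e.2.1) == mI) &&
      (mm (evG e.2.1) (evG e.2.2) == mI)
  else mm M M != mI

/-- Correctness of the three lifts. -/
def liftsOK (w : List ℕ) (E : List Lf) : Bool :=
  wordsOK w && (List.range 3).all fun j => liftOK (liftM w j) (E.getD j (4, [], []))

/-- The number of involutions, or the identity, over a fixed vector. -/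
def cntI (r a : ℕ) : ℕ :=
  if (r == 0) && (a == 0) then 1 else if decide (r < 2) && qTab.testBit a then 0 else 2

/-- The number of conjugates of the central involution over a fixed vector, with three parameters. -/
def zV (x y w r a : ℕ) : ℕ :=
  match r with
  | 0 => if a == 0 then 1 else if zTwo0.testBit a then 2 else 0
  | 1 => if qTab.testBit a then 0 else if zTwo1.testBit a then 2 else if zOne1.testBit a then 1 else x
  | 2 => y
  | _ => w

/-- The number of the other involutions over a fixed vector. -/
def tV (x y w r a : ℕ) : ℕ := cntI r a - zV x y w r a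

/-- The orbit sums as a matrix. -/
def osM (R : List ℕ) (k : ℕ) : List ℕ := (List.range 12).map fun i => orbSum R k (2 ^ i)

/-- A bit of a set given by a number. -/
def tb (m s : ℕ) : Bool := Nat.beq (Nat.land (Nat.shiftRight m s) 1) 1

/-- The condition on two pairs of orbit sums. -/
def okP (odd inn : Bool) (ul uh vl vh : ℕ) : Bool :=
  bif Nat.beq ul vl then odd || (inn && tb qTab (Nat.xor uh vh)) else tb qTab (Nat.xor ul vl)

/-- The orbit sums of the vectors with their weights, leaving out the weight zero. -/
noncomputable def keys (W : ℕ → ℕ) (L H : List ℕ) (bs : List ℕ) : List (ℕ × ℕ × ℕ) :=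
  List.rec [] (fun b _ r => bif Nat.beq (W b) 0 then r else (app L b, app H b, W b) :: r) bs

/-- The weight of the good partners. -/
noncomputable def inner (odd inn : Bool) (ul uh : ℕ) (V : List (ℕ × ℕ × ℕ)) : ℕ :=
  List.rec 0 (fun v _ r => bif okP odd inn ul uh v.1 v.2.1 then Nat.add v.2.2 r else r) V

/-- The weight of the good pairs. -/
noncomputable def outer (odd inn : Bool) (U V : List (ℕ × ℕ × ℕ)) : ℕ :=
  List.rec 0 (fun u _ r => Nat.add (Nat.mul u.2.2 (inner odd inn u.1 u.2.1 V)) r) U

/-- The pairs over two lifts. -/
noncomputable def termN (M N : List ℕ) (eu ev : Lf) (k rr : ℕ) : ℕ :=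
  let R := mm M N
  let L := osM R k
  let H := osM R (k / 2)
  let A := evG eu.2.2
  let B := mm M (evG ev.2.2)
  outer (Nat.beq (k % 2) 1) (Nat.blt rr 2) (keys (zV 0 1 0 eu.1) (mm L A) (mm H A) (invR eu.1))
    (keys (tV 0 1 0 ev.1) (mm L B) (mm H B) (invR ev.1))

/-- The order of the product and the class of its middle power. -/
def infoOK (R : List ℕ) (e : ℕ × ℕ × List ℕ) : Bool :=
  decide (0 < e.1) && (powM R e.1 == mI) &&
    ((List.range e.1).all fun i => (i == 0) || powM R i != mI) &&
    ((e.1 % 2 == 1) || witOK (powM R (e.1 / 2)) e.2.1 e.2.2)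

/-- The pairs over two permutations. -/
noncomputable def pairOK (wp wq : List ℕ) (EP EQ : List Lf) (I : List (ℕ × ℕ × List ℕ)) (c : ℕ) : Bool :=
  liftsOK wq EQ &&
    ((List.range 3).all fun i => (List.range 3).all fun j =>
      decide (4 ≤ (EP.getD i (4, [], [])).1) || decide (4 ≤ (EQ.getD j (4, [], [])).1) ||
        infoOK (mm (liftM wp i) (liftM wq j)) (I.getD (3 * i + j) (0, 4, []))) &&
    (((List.range 3).map fun i => ((List.range 3).map fun j =>
      if decide (4 ≤ (EP.getD i (4, [], [])).1) || decide (4 ≤ (EQ.getD j (4, [], [])).1) then 0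
      else termN (liftM wp i) (liftM wq j) (EP.getD i (4, [], [])) (EQ.getD j (4, [], []))
        (I.getD (3 * i + j) (0, 4, [])).1 (I.getD (3 * i + j) (0, 4, [])).2.1).sum).sum == c)

/-- The number of conjugates of the other involution over a permutation. -/
def tTot (x y w : ℕ) (E : List Lf) : ℕ :=
  ((List.range 3).map fun j => if decide (4 ≤ (E.getD j (4, [], [])).1) then 0 else
    ((invR (E.getD j (4, [], [])).1).map fun b => tV x y w (E.getD j (4, [], [])).1 b).sum).sum

/-- The change from the pair of the three-group to the standard pair. -/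
def permTo (w : List ℕ) : ℕ := comp (comp g0P (wordP w)) g0iP

end Cfsg.Agent.Spor.JFour.OrderH
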