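import Cfsg.Agent.Lib.Spor.JFourType.OrderH.Count
import Cfsg.Agent.Lib.Spor.JFourType.OrderT.Count
import Cfsg.Agent.Lib.Spor.JFourType.Bridge.Formula

/-!
The two pair counts for a group of Janko-four type.
-/

set_option autoImplicit false
set_option linter.style.haveILetI false

open Cfsg

namespace Cfsg.Agent.Spor.JFour.Frame

variable {G : Type*} [Group G] [Finite G] [IsSimpleGroup G] {z : G} {P : Subgroup G} {S : Setting z P}

/-- The two counts. -/
theorem pair_counts (Fr : Frame S) (hG : ¬ IsMulCommutative G)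
    (hH : Nat.card ↥(Subgroup.centralizer ({z} : Set G)) = 21799895040) :
    pairCount z (Fr.Av 43) z = 29236337328 ∧ pairCount z (Fr.Av 43) (Fr.Av 43) = 1544188503 := by
  have hfus : Fr.Classes := fun v hv => Fr.inO_iff hG hv
  have D := Fr.duadic hG
  obtain ⟨K⟩ := Fr.exists_kap D
  have hp := par_eq K D hfus hH (Fr.card_second hG (by norm_num) two_mask.1)
  have hT : Mathieu.tMask.testBit 43 = true := by decide +kernel
  have hd : IsConj (Fr.Av 2) (Fr.Av 43) := Fr.duad_conj D (by norm_num) hT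
  have hcj : ∀ y, IsConj (Fr.Av 43) y ↔ IsConj (Fr.Av 2) y :=
    fun y => ⟨fun h => hd.trans h, fun h => hd.symm.trans h⟩
  refine ⟨?_, ?_⟩
  · rw [← card_good_eq K D hfus hp]
    exact Nat.card_congr (Equiv.subtypeEquivRight fun p => and_congr_right fun _ => and_congr_left fun _ => hcj _)
  · obtain ⟨g, hg⟩ := isConj_iff.1 hd
    rw [← Fr.aCount_two D hfus, JFour.aCount_eq z (Fr.Av 2) Fr.orderOf_two]
    refine (Nat.card_congr (Equiv.subtypeEquiv
      (Equiv.prodCongr (MulAut.conj g).toEquiv (MulAut.conj g).toEquiv) fun p => ?_)).symm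
    have hc : ∀ x y : G, IsConj x (g * y * g⁻¹) ↔ IsConj x y := fun x y =>
      ⟨fun h => h.trans (isConj_iff.2 ⟨g, rfl⟩ : IsConj y (g * y * g⁻¹)).symm,
        fun h => h.trans (isConj_iff.2 ⟨g, rfl⟩ : IsConj y (g * y * g⁻¹))⟩
    show _ ↔ IsConj z (g * p.1 * g⁻¹) ∧ IsConj (Fr.Av 43) (g * p.2 * g⁻¹) ∧
      Fr.Av 43 ∈ Subgroup.zpowers (g * p.1 * g⁻¹ * (g * p.2 * g⁻¹))
    rw [hc, hc, hcj, show g * p.1 * g⁻¹ * (g * p.2 * g⁻¹) = g * (p.1 * p.2) * g⁻¹ by group, ← hg]
    refine and_congr_right fun _ => and_congr_right fun _ => ?_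
    constructor
    · intro h
      obtain ⟨j, hj⟩ := Subgroup.mem_zpowers_iff.1 h
      exact Subgroup.mem_zpowers_iff.2 ⟨j, by rw [conj_zpow, hj]⟩
    · intro h
      obtain ⟨j, hj⟩ := Subgroup.mem_zpowers_iff.1 h
      rw [conj_zpow] at hj
      exact Subgroup.mem_zpowers_iff.2 ⟨j, mul_left_cancel (mul_right_cancel hj)⟩

end Cfsg.Agent.Spor.JFour.Frame
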