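import Cfsg.Agent.Lib.Spor.JFourType.NormA
import Cfsg.Agent.Lib.Spor.JFourType.OrderT.CountDefs

/-!
The centraliser of the involution modulo the involution as affine maps: a vector, a matrix and a permutation of the
points for every element.
-/

set_option autoImplicit false
set_option maxRecDepth 100000
set_option linter.style.haveILetI false

open Cfsg Cfsg.Agent.Spor.Golay
open Cfsg.Agent.Spor.Cos.J4Sub (app mm app_mm app_xor app_zero)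

namespace Cfsg.Agent.Spor.JFour

open OrderT (orbSum)

namespace OrderH

/-- The matrices of the ten generators. -/
def gM : ℕ → List ℕ
  | 6 => mS
  | 7 => mW
  | 8 => mQ
  | 9 => mO
  | n => mBase n

/-- A power of a matrix. -/
def powM (R : List ℕ) : ℕ → List ℕ
  | 0 => mI
  | k + 1 => mm R (powM R k)

theorem okMat_powM {R : List ℕ} (h : okMat R = true) : ∀ k, okMat (powM R k) = true
  | 0 => okMat_mI
  | k + 1 => okMat_mm h (okMat_powM h k)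

theorem app_orbSum (R : List ℕ) : ∀ i v, app R (orbSum R i v) = orbSum R i (app R v)
  | 0, v => by simp [orbSum, app_zero]
  | i + 1, v => by rw [orbSum, orbSum, app_xor, app_orbSum R i]

theorem pk9_sq : permOf (pk 9) * permOf (pk 9) = 1 := by
  rw [← permOf_comp (pk_valid 9) (pk_valid 9), show comp (pk 9) (pk 9) = idP by decide +kernel, permOf_idP]

end OrderH

namespace Frame

open OrderH

variable {G : Type*} [Group G] {z : G} {P : Subgroup G} {S : Setting z P} (Fr : Frame S)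

/-- An element normalising the three-group, with its permutation. -/
def Pm (n : G) (π : Equiv.Perm GolayPt) : Prop :=
  (n ∈ CP z P ∧ S.ψ n = π) ∨ ∃ c ∈ CP z P, n = c * Fr.F.o ∧ S.ψ c * permOf (pk 9) = π

/-- The coordinates of an element of the centraliser. -/
def Img (h : G) (a : ℕ) (M : List ℕ) (π : Equiv.Perm GolayPt) : Prop :=
  a < 4096 ∧ ∃ e ∈ twoCoreOfCentralizer z, ∃ n, Fr.Pm n π ∧ Fr.F.Rep n M ∧ h = e * n ∧ S.rep e = Fr.F.Φ a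

variable {Fr} [Finite G]

theorem Pm.hz {n : G} {π : Equiv.Perm GolayPt} (h : Fr.Pm n π) : n * z = z * n := by
  rcases h with ⟨hn, -⟩ | ⟨c, hc, rfl, -⟩
  · exact S.commz hn
  · exact ((show Commute c z from S.commz hc).mul_left (show Commute Fr.F.o z from Fr.F.o_norm.hz)).eq

theorem Pm.one : Fr.Pm 1 1 := Or.inl ⟨one_mem _, S.ψ_one⟩

variable (Fr)

theorem o_not_mem {c : G} (hc : c ∈ CP z P) : c * Fr.F.o ∉ CP z P := fun h => by
  have ho : Fr.F.o ∈ CP z P := by simpa using mul_mem (inv_mem hc) h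
  have e := Fr.F.o_p
  rw [(S.mem_iff.1 ho).2, mul_inv_cancel_right] at e
  exact S.p_ne (mul_eq_left.1 e.symm)

theorem oo_spec : Fr.F.o * Fr.F.o ∈ CP z P ∧ S.ψ (Fr.F.o * Fr.F.o) = 1 := by
  have hoz : Fr.F.o * z = z * Fr.F.o := Fr.F.o_norm.hz
  have hm : Fr.F.o * Fr.F.o ∈ CP z P := by
    refine S.mem_iff.2 ⟨((show Commute Fr.F.o z from hoz).mul_left (show Commute Fr.F.o z from hoz)).eq, ?_⟩
    rw [← mul_inv_eq_iff_eq_mul]
    calc Fr.F.o * Fr.F.o * S.p * (Fr.F.o * Fr.F.o)⁻¹ = Fr.F.o * (Fr.F.o * S.p * Fr.F.o⁻¹) * Fr.F.o⁻¹ := by group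
      _ = Fr.F.o * (S.p * S.p) * Fr.F.o⁻¹ := by rw [Fr.F.o_p]
      _ = (Fr.F.o * S.p * Fr.F.o⁻¹) * (Fr.F.o * S.p * Fr.F.o⁻¹) := by group
      _ = S.p * (S.p * S.p * S.p) := by rw [Fr.F.o_p]; group
      _ = S.p := by rw [S.p_pow, mul_one]
  refine ⟨hm, Setting.M22_center (S.ψ_mem _ hm) fun g hg => ?_⟩
  obtain ⟨c, hc, rfl⟩ := S.ψ_surj g hg
  have e1 := Fr.F.o_norm.ψ c hc
  have e2 := Fr.F.o_norm.ψ _ (Fr.F.o_norm.mem c hc)
  rw [e1, show Fr.F.o * (Fr.F.o * c * Fr.F.o⁻¹) * Fr.F.o⁻¹ = Fr.F.o * Fr.F.o * c * (Fr.F.o * Fr.F.o)⁻¹ by group,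
    S.ψ_conj hm hc, show permOf (pk 9) * (permOf (pk 9) * S.ψ c * (permOf (pk 9))⁻¹) * (permOf (pk 9))⁻¹ =
      (permOf (pk 9) * permOf (pk 9)) * S.ψ c * (permOf (pk 9) * permOf (pk 9))⁻¹ by group, pk9_sq, one_mul,
    inv_one, mul_one, mul_inv_eq_iff_eq_mul] at e2
  exact e2.symm

variable {Fr}

theorem Pm.mul {n m : G} {π ρ : Equiv.Perm GolayPt} (hn : Fr.Pm n π) (hm : Fr.Pm m ρ) : Fr.Pm (n * m) (π * ρ) := by
  obtain ⟨ho, hoψ⟩ := Fr.oo_spec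
  rcases hn with ⟨hn, rfl⟩ | ⟨c, hc, rfl, rfl⟩ <;> rcases hm with ⟨hm, rfl⟩ | ⟨d, hd, rfl, rfl⟩
  · exact Or.inl ⟨mul_mem hn hm, S.ψ_mul _ hn _ hm⟩
  · exact Or.inr ⟨n * d, mul_mem hn hd, by group, by rw [S.ψ_mul _ hn _ hd]; group⟩
  · refine Or.inr ⟨c * (Fr.F.o * m * Fr.F.o⁻¹), mul_mem hc (Fr.F.o_norm.mem m hm), by group, ?_⟩
    rw [S.ψ_mul _ hc _ (Fr.F.o_norm.mem m hm), Fr.F.o_norm.ψ m hm]; group
  · refine Or.inl ⟨?_, ?_⟩
    · rw [show c * Fr.F.o * (d * Fr.F.o) = c * (Fr.F.o * d * Fr.F.o⁻¹) * (Fr.F.o * Fr.F.o) by group]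
      exact mul_mem (mul_mem hc (Fr.F.o_norm.mem d hd)) ho
    · rw [show c * Fr.F.o * (d * Fr.F.o) = c * (Fr.F.o * d * Fr.F.o⁻¹) * (Fr.F.o * Fr.F.o) by group,
        S.ψ_mul _ (mul_mem hc (Fr.F.o_norm.mem d hd)) _ ho, S.ψ_mul _ hc _ (Fr.F.o_norm.mem d hd), hoψ, mul_one,
        Fr.F.o_norm.ψ d hd, inv_eq_of_mul_eq_one_right pk9_sq]
      group

theorem Pm.unique {n : G} {π ρ : Equiv.Perm GolayPt} (h : Fr.Pm n π) (h' : Fr.Pm n ρ) : π = ρ := by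
  rcases h with ⟨hn, rfl⟩ | ⟨c, hc, rfl, rfl⟩ <;> rcases h' with ⟨hm, rfl⟩ | ⟨d, hd, e, rfl⟩
  · rfl
  · exact absurd (e ▸ hn) (Fr.o_not_mem hd)
  · exact absurd hm (Fr.o_not_mem hc)
  · rw [mul_right_cancel e]

theorem Pm.pow {n : G} {π : Equiv.Perm GolayPt} (h : Fr.Pm n π) : ∀ k : ℕ, Fr.Pm (n ^ k) (π ^ k)
  | 0 => by rw [pow_zero, pow_zero]; exact Pm.one
  | k + 1 => by rw [pow_succ, pow_succ]; exact (Pm.pow h k).mul h

theorem Pm.inv {n : G} {π : Equiv.Perm GolayPt} (h : Fr.Pm n π) : Fr.Pm n⁻¹ π⁻¹ := by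
  have hpos := orderOf_pos n
  have h1 := (h.pow (orderOf n - 1)).mul h
  rw [← pow_succ, Nat.sub_add_cancel hpos, pow_orderOf_eq_one] at h1
  have e := h1.unique Pm.one
  have hg : n⁻¹ = n ^ (orderOf n - 1) := inv_eq_of_mul_eq_one_left (by
    rw [← pow_succ, Nat.sub_add_cancel hpos, pow_orderOf_eq_one])
  rw [hg, inv_eq_of_mul_eq_one_left e]
  exact h.pow _

/-- A trivially acting one is central. -/
theorem Pm.ker {n : G} {π : Equiv.Perm GolayPt} (h : Fr.Pm n π) (ha : S.act n = 1) :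
    (n = 1 ∨ n = z) ∧ π = 1 := by
  rcases h with ⟨hn, rfl⟩ | ⟨c, hc, rfl, rfl⟩
  · rcases S.act_ker_CP hn ha with rfl | rfl
    · exact ⟨Or.inl rfl, S.ψ_one⟩
    · exact ⟨Or.inr rfl, S.ψ_z⟩
  exfalso
  have hz := Pm.hz (Fr := Fr) (π := S.ψ c * permOf (pk 9)) (Or.inr ⟨c, hc, rfl, rfl⟩)
  have hE := (S.act_ker _ hz).1 ha
  set n := c * Fr.F.o with hn
  have e : n * S.p * n⁻¹ = S.p * S.p := by
    rw [hn, show c * Fr.F.o * S.p * (c * Fr.F.o)⁻¹ = c * (Fr.F.o * S.p * Fr.F.o⁻¹) * c⁻¹ by group, Fr.F.o_p,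
      show c * (S.p * S.p) * c⁻¹ = (c * S.p) * c⁻¹ * ((c * S.p) * c⁻¹) by group, (S.mem_iff.1 hc).2,
      mul_inv_cancel_right]
  have hp : S.p ∈ twoCoreOfCentralizer z := by
    have hm : n * (S.p * n⁻¹ * S.p⁻¹) ∈ twoCoreOfCentralizer z := mul_mem hE (S.ext.norm _ S.pz _ (inv_mem hE))
    rwa [show n * (S.p * n⁻¹ * S.p⁻¹) = n * S.p * n⁻¹ * S.p⁻¹ by group, e, mul_inv_cancel_right] at hm
  obtain ⟨e0, he0⟩ : ∃ v : V12, v ≠ 0 := ⟨fun _ => 1, fun h => one_ne_zero (congrFun h 0)⟩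
  exact he0 (S.p_fpf (by rw [S.act_eq_one S.pz hp]; rfl))

theorem act_eq_of_rep {g h : G} {M : List ℕ} (hg : Fr.F.Rep g M) (hh : Fr.F.Rep h M) : S.act g = S.act h :=
  LinearMap.ext fun v => by
    obtain ⟨n, hn, rfl⟩ := Fr.F.toCoord.surj v
    rw [hg.eq n hn, hh.eq n hn]

/-- The matrix determines the element up to the involution. -/
theorem Pm.eq_of_rep {n m : G} {π ρ : Equiv.Perm GolayPt} {M : List ℕ} (hn : Fr.Pm n π) (hm : Fr.Pm m ρ)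
    (rn : Fr.F.Rep n M) (rm : Fr.F.Rep m M) : (n = m ∨ n = m * z) ∧ π = ρ := by
  have hz' := conj_inv_comm hm.hz
  have ha : S.act (m⁻¹ * n) = 1 := by
    rw [S.act_mul _ _ hz' hn.hz, act_eq_of_rep rn rm, S.act_inv_mul hm.hz]
  obtain ⟨hc, e⟩ := (hm.inv.mul hn).ker ha
  refine ⟨?_, (inv_mul_eq_one.1 e).symm⟩
  rcases hc with e | e
  · exact Or.inl (inv_mul_eq_one.1 e).symm
  · exact Or.inr (inv_mul_eq_iff_eq_mul.1 e)

variable (Fr)

/-- Every element of the centraliser has coordinates. -/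
theorem exists_img {h : G} (hh : h * z = z * h) : ∃ a M π, Fr.Img h a M π := by
  obtain ⟨e, he, c, hc, hcase⟩ := S.frattini h hh
  obtain ⟨a, ha, ea⟩ := Fr.F.toCoord.surj (S.rep e)
  suffices hn : ∃ n π, Fr.Pm n π ∧ h = e * n by
    obtain ⟨n, π, hn, rfl⟩ := hn
    obtain ⟨M, hM⟩ := Fr.F.toCoord.exists_rep hn.hz
    exact ⟨a, M, π, ha, e, he, n, hn, hM, rfl, ea.symm⟩
  rcases hcase with rfl | rfl
  · exact ⟨c, _, Or.inl ⟨hc, rfl⟩, rfl⟩
  · have hd : S.o * Fr.F.o⁻¹ ∈ CP z P := by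
      refine S.mem_iff.2 ⟨((show Commute S.o z from S.oz).mul_left
        (show Commute Fr.F.o z from Fr.F.o_norm.hz).inv_left).eq, ?_⟩
      have hi : Fr.F.o⁻¹ * S.p * Fr.F.o = S.p * S.p := by
        have h1 : Fr.F.o * (S.p * S.p) * Fr.F.o⁻¹ = S.p := by
          rw [show Fr.F.o * (S.p * S.p) * Fr.F.o⁻¹ = (Fr.F.o * S.p * Fr.F.o⁻¹) * (Fr.F.o * S.p * Fr.F.o⁻¹) by group,
            Fr.F.o_p, show S.p * S.p * (S.p * S.p) = S.p * S.p * S.p * S.p by group, S.p_pow, one_mul]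
        conv_lhs => rw [← h1]
        group
      rw [← mul_inv_eq_iff_eq_mul]
      calc S.o * Fr.F.o⁻¹ * S.p * (S.o * Fr.F.o⁻¹)⁻¹ = S.o * (Fr.F.o⁻¹ * S.p * Fr.F.o) * S.o⁻¹ := by group
        _ = (S.o * S.p * S.o⁻¹) * (S.o * S.p * S.o⁻¹) := by rw [hi]; group
        _ = S.p * (S.p * S.p * S.p) := by rw [S.op]; group
        _ = S.p := by rw [S.p_pow, mul_one]
    exact ⟨c * (S.o * Fr.F.o⁻¹) * Fr.F.o, _, Or.inr ⟨_, mul_mem hc hd, rfl, rfl⟩, by group⟩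

variable {Fr}

theorem Img.hz {h : G} {a : ℕ} {M : List ℕ} {π : Equiv.Perm GolayPt} (hi : Fr.Img h a M π) : h * z = z * h := by
  obtain ⟨-, e, he, n, hn, -, rfl, -⟩ := hi
  exact ((show Commute e z from S.ext.central e he).mul_left (show Commute n z from hn.hz)).eq

theorem Img.ok {h : G} {a : ℕ} {M : List ℕ} {π : Equiv.Perm GolayPt} (hi : Fr.Img h a M π) : okMat M = true := by
  obtain ⟨-, -, -, n, -, hn, -⟩ := hi
  exact hn.ok

theorem Img.rep {h : G} {a : ℕ} {M : List ℕ} {π : Equiv.Perm GolayPt} (hi : Fr.Img h a M π) : Fr.F.Rep h M := by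
  have hz := hi.hz
  obtain ⟨-, e, he, n, hn, hM, rfl, -⟩ := hi
  exact ⟨hz, hM.ok, fun v hv => by
    rw [S.act_mul _ _ (S.ext.central e he) hn.hz, S.act_eq_one (S.ext.central e he) he, one_mul, hM.eq v hv]⟩

theorem Img.unique {h : G} {a b : ℕ} {M N : List ℕ} {π ρ : Equiv.Perm GolayPt} (h1 : Fr.Img h a M π)
    (h2 : Fr.Img h b N ρ) : a = b ∧ M = N ∧ π = ρ := by
  have eM : M = N := Fr.F.toCoord.rep_unique h1.rep h2.rep
  subst eM
  obtain ⟨ha, e, he, n, hn, hM, rfl, ea⟩ := h1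
  obtain ⟨hb, f, hf, m, hm, hN, e2, eb⟩ := h2
  obtain ⟨hc, rfl⟩ := hn.eq_of_rep hm hM hN
  refine ⟨Fr.F.toCoord.inj a ha b hb ?_, rfl, rfl⟩
  rw [← ea, ← eb]
  rcases hc with rfl | rfl
  · rw [mul_right_cancel e2]
  · have : f = e * z := mul_right_cancel (b := m) (by rw [← e2, ← mul_assoc, mul_assoc e m z, hm.hz, ← mul_assoc])
    rw [this, S.rep_mul_z he]

theorem Img.mul {g h : G} {a b : ℕ} {M N : List ℕ} {π ρ : Equiv.Perm GolayPt} (hg : Fr.Img g a M π)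
    (hh : Fr.Img h b N ρ) : Fr.Img (g * h) (a ^^^ app M b) (mm M N) (π * ρ) := by
  obtain ⟨ha, e, he, n, hn, hM, rfl, ea⟩ := hg
  obtain ⟨hb, f, hf, m, hm, hN, rfl, eb⟩ := hh
  have hl := app_lt_of_ok hM.ok b
  have hf' := S.ext.norm n hn.hz f hf
  refine ⟨Nat.xor_lt_two_pow (n := 12) ha hl, e * (n * f * n⁻¹), mul_mem he hf', n * m, hn.mul hm,
    Fr.F.toCoord.rep_mul hM hN, by group, ?_⟩
  rw [S.rep_mul _ he _ hf', ← S.act_rep n hn.hz f hf, ea, eb, hM.eq b hb, Fr.F.toCoord.add]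

theorem Img.one : Fr.Img 1 0 mI 1 :=
  ⟨by norm_num, 1, one_mem _, 1, Pm.one, Fr.F.toCoord.rep_one, (one_mul 1).symm,
    by rw [S.rep_one, Fr.F.toCoord.zero']⟩

theorem img_core {e : G} (he : e ∈ twoCoreOfCentralizer z) {a : ℕ} (ha : a < 4096) (ea : S.rep e = Fr.F.Φ a) :
    Fr.Img e a mI 1 :=
  ⟨ha, e, he, 1, Pm.one, Fr.F.toCoord.rep_one, (mul_one e).symm, ea⟩

theorem img_pm {n : G} {π : Equiv.Perm GolayPt} {M : List ℕ} (hn : Fr.Pm n π) (hM : Fr.F.Rep n M) :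
    Fr.Img n 0 M π :=
  ⟨by norm_num, 1, one_mem _, n, hn, hM, (one_mul n).symm, by rw [S.rep_one, Fr.F.toCoord.zero']⟩

theorem Img.mul_z {h : G} {a : ℕ} {M : List ℕ} {π : Equiv.Perm GolayPt} (hi : Fr.Img h a M π) :
    Fr.Img (h * z) a M π := by
  obtain ⟨ha, e, he, n, hn, hM, rfl, ea⟩ := hi
  exact ⟨ha, e * z, S.mul_z_mem he, n, hn, hM, by rw [mul_assoc, mul_assoc, hn.hz],
    by rw [S.rep_mul_z he, ea]⟩

/-- Elements with the same vector and matrix differ by the involution. -/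
theorem Img.eq_or {g h : G} {a : ℕ} {M : List ℕ} {π ρ : Equiv.Perm GolayPt} (hg : Fr.Img g a M π)
    (hh : Fr.Img h a M ρ) : (g = h ∨ g = h * z) ∧ π = ρ := by
  obtain ⟨ha, e, he, n, hn, hM, rfl, ea⟩ := hg
  obtain ⟨hb, f, hf, m, hm, hN, rfl, eb⟩ := hh
  obtain ⟨hc, rfl⟩ := hn.eq_of_rep hm hM hN
  refine ⟨?_, rfl⟩
  have hef : e = f ∨ e = f * z := S.eq_or_mul_z hf he (eb.trans ea.symm)
  rcases hc with rfl | rfl <;> rcases hef with rfl | rfl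
  · exact Or.inl rfl
  · exact Or.inr (by rw [mul_assoc, mul_assoc, hm.hz])
  · exact Or.inr (by group)
  · refine Or.inl ?_
    rw [show f * z * (m * z) = f * (z * m) * z by group, ← hm.hz, show f * (m * z) * z = f * m * (z * z) by group,
      S.zz, mul_one]

theorem Img.conj {g h : G} {c a : ℕ} {N M M' : List ℕ} {π ρ : Equiv.Perm GolayPt} (hg : Fr.Img g c N π)
    (hh : Fr.Img h a M ρ) (hM : okMat M' = true) (e : mm N M = mm M' N) :
    Fr.Img (g * h * g⁻¹) (c ^^^ app N a ^^^ app M' c) M' (π * ρ * π⁻¹) := by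
  obtain ⟨b, K, τ, hk⟩ := Fr.exists_img (h := g * h * g⁻¹) (by
    exact (((show Commute g z from hg.hz).mul_left (show Commute h z from hh.hz)).mul_left
      (show Commute g z from hg.hz).inv_left).eq)
  have h1 := hk.mul hg
  rw [inv_mul_cancel_right] at h1
  obtain ⟨e1, e2, e3⟩ := h1.unique (hg.mul hh)
  have hτ : τ = π * ρ * π⁻¹ := by rw [← e3, mul_inv_cancel_right]
  have hK : K = M' := by
    refine List.ext_getElem (by rw [okMat_length hk.ok, okMat_length hM]) fun i i1 i2 => ?_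
    rw [← List.getD_eq_getElem _ 0 i1, ← List.getD_eq_getElem _ 0 i2, ← app_two_pow i1, ← app_two_pow i2]
    have hi : 2 ^ i < 4096 := Nat.pow_lt_pow_right (by norm_num) (show i < 12 by rwa [okMat_length hM] at i2)
    obtain ⟨-, f, hf, m, hm, hN, hgf, -⟩ := id hg
    obtain ⟨v, hv, ev⟩ := Fr.F.toCoord.surj (S.act m⁻¹ (Fr.F.Φ (2 ^ i)))
    have hmv : app N v = 2 ^ i := by
      refine Fr.F.toCoord.inj _ (app_lt_of_ok hN.ok _) _ hi ?_
      rw [← hN.eq v hv, ev, ← Module.End.mul_apply, S.act_mul_inv hm.hz, Module.End.one_apply]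
    rw [← hmv, ← app_mm, ← app_mm, e2, e]
  subst hK hτ
  have hb := hk.1
  have : b = c ^^^ app N a ^^^ app K c := by
    rw [← e1, Nat.xor_assoc, Nat.xor_self, Nat.xor_zero]
  exact this ▸ hk

theorem Img.pow {h : G} {a : ℕ} {M : List ℕ} {π : Equiv.Perm GolayPt} (hi : Fr.Img h a M π) :
    ∀ k : ℕ, Fr.Img (h ^ k) (orbSum M k a) (powM M k) (π ^ k)
  | 0 => by rw [pow_zero, pow_zero]; exact Img.one
  | k + 1 => by
    rw [pow_succ', pow_succ', orbSum, ← app_orbSum]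
    exact hi.mul (Img.pow hi k)

/-- The matrix is one exactly in the core. -/
theorem Img.mem_core {h : G} {a : ℕ} {π : Equiv.Perm GolayPt} (hi : Fr.Img h a mI π) :
    h ∈ twoCoreOfCentralizer z ∧ S.rep h = Fr.F.Φ a ∧ π = 1 := by
  obtain ⟨ha, e, he, n, hn, hM, rfl, ea⟩ := hi
  obtain ⟨hc, rfl⟩ := hn.eq_of_rep Pm.one hM Fr.F.toCoord.rep_one
  rcases hc with rfl | rfl
  · rw [mul_one]; exact ⟨he, ea, rfl⟩
  · rw [one_mul]; exact ⟨S.mul_z_mem he, by rw [S.rep_mul_z he, ea], rfl⟩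

variable (Fr)

/-- Lifts of the generators. -/
noncomputable def gl (k : ℕ) : G :=
  if k < 4 then Fr.X.b (2 ^ k) else if k = 4 then Fr.F.R.x else if k = 5 then Fr.F.R.y else if k = 6 then Fr.F.s
  else if k = 7 then Fr.F.w else if k = 8 then Fr.F.q else if k = 9 then Fr.F.o else 1

theorem gl_spec {k : ℕ} (hk : k < 10) :
    Fr.Pm (Fr.gl k) (permOf (pk k)) ∧ Fr.F.Rep (Fr.gl k) (gM k) := by
  have hb : ∀ i < 4, Fr.Pm (Fr.X.b (2 ^ i)) (permOf (pk i)) ∧ Fr.F.Rep (Fr.X.b (2 ^ i)) (mA i) := fun i hi => by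
    have hp : (2 : ℕ) ^ i < 16 := Nat.pow_lt_pow_right (by norm_num) (show i < 4 from hi)
    refine ⟨Or.inl ⟨Fr.X.mem _ hp, by rw [Fr.X.ψ_b _ hp, wordπ_kw_two_pow hi]⟩, ?_⟩
    rw [← beq_iff_eq.1 (List.all_eq_true.1 tr_check.2.2.1 i (List.mem_range.2 hi))]
    exact Fr.rep_b _ hp
  interval_cases k
  · exact hb 0 (by norm_num)
  · exact hb 1 (by norm_num)
  · exact hb 2 (by norm_num)
  · exact hb 3 (by norm_num)
  · exact ⟨Or.inl ⟨Fr.F.R.x_mem, Fr.F.R.x_ψ⟩, (Fr.F.toCoord.lift_spec (k := 4) (by norm_num)).2.2⟩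
  · exact ⟨Or.inl ⟨Fr.F.R.y_mem, Fr.F.R.y_ψ⟩, (Fr.F.toCoord.lift_spec (k := 5) (by norm_num)).2.2⟩
  · exact ⟨Or.inl ⟨Fr.F.s_mem, Fr.F.s_ψ⟩, Fr.F.rs⟩
  · exact ⟨Or.inl ⟨Fr.F.w_mem, Fr.F.w_ψ⟩, Fr.F.rw'⟩
  · exact ⟨Or.inl ⟨Fr.F.q_mem, Fr.F.q_ψ⟩, Fr.F.rq⟩
  · exact ⟨Or.inr ⟨1, one_mem _, (one_mul _).symm, by rw [S.ψ_one, one_mul]⟩, Fr.F.ro⟩

theorem word_spec : ∀ w : List ℕ, (∀ k ∈ w, k < 10) →
    Fr.Pm (w.map Fr.gl).prod (wordπ w) ∧ Fr.F.Rep (w.map Fr.gl).prod (evM gM w)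
  | [], _ => ⟨by rw [List.map_nil, List.prod_nil, wordπ_nil]; exact Pm.one, Fr.F.toCoord.rep_one⟩
  | k :: w, h => by
    obtain ⟨h1, h2⟩ := word_spec w fun j hj => h j (List.mem_cons_of_mem _ hj)
    obtain ⟨g1, g2⟩ := Fr.gl_spec (h k (List.mem_cons_self ..))
    rw [List.map_cons, List.prod_cons, wordπ_cons]
    exact ⟨g1.mul h1, Fr.F.toCoord.rep_mul g2 h2⟩

variable {Fr}

/-- The possible matrices over a permutation. -/
theorem Pm.lifts {n : G} {M : List ℕ} {w : List ℕ} (hn : Fr.Pm n (wordπ w)) (hM : Fr.F.Rep n M)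
    (hw : ∀ k ∈ w, k < 10) : ∃ j < 3, M = mm (mTp j) (evM gM w) := by
  obtain ⟨h1, h2⟩ := Fr.word_spec w hw
  have hd := hn.mul h1.inv
  rw [mul_inv_cancel] at hd
  rcases hd with ⟨hc, hψ⟩ | ⟨c, hc, e, hψ⟩
  · obtain ⟨K, hK⟩ := Fr.F.toCoord.exists_rep (S.commz hc)
    obtain ⟨j, hj, rfl⟩ := Fr.F.toCoord.scalar_rep hc hψ hK
    exact ⟨j, hj, Fr.F.toCoord.rep_unique hM (by simpa using Fr.F.toCoord.rep_mul hK h2)⟩
  · exfalso
    have h9 : permOf (pk 9) = (S.ψ c)⁻¹ := (inv_eq_of_mul_eq_one_right hψ).symm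
    have h0 : ∀ g ∈ Cfsg.Spor.M22, g (pt 0) = pt 0 := fun g hg => by
      rw [show pt 0 = (some 0 : GolayPt) by decide +kernel]
      exact hg.2
    have := h0 _ (h9 ▸ inv_mem (S.ψ_mem c hc))
    rw [pk_pt 9 (by norm_num)] at this
    exact absurd this (by decide +kernel)

end Frame

end Cfsg.Agent.Spor.JFour
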