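import Cfsg.Agent.Lib.Spor.JFourType.OrderH.Final
import Cfsg.Agent.Lib.Spor.JFourType.SylowH

/-!
The order of a simple group of Janko-four type.
-/

set_option autoImplicit false
set_option linter.style.haveILetI false

open Cfsg

namespace Cfsg.Agent.Spor.JFour

variable {G : Type*} [Group G] [Finite G] [IsSimpleGroup G]

/-- The order from a frame. -/
theorem Frame.card_group {z : G} {P : Subgroup G} {S : Setting z P} (Fr : Frame S) (hG : ¬ IsMulCommutative G) :
    Nat.card G = 86775571046077562880 := by
  have hH : Nat.card ↥(Subgroup.centralizer ({z} : Set G)) = 21799895040 := by rw [S.card_H]; norm_num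
  have hzo : orderOf z = 2 := by
    refine orderOf_eq_prime (by rw [pow_two]; exact S.zz) fun e => ?_
    exact S.ext.ne e
  obtain ⟨haz, hat⟩ := Fr.pair_counts hG hH
  rw [Fr.order_of_counts hG hH hzo haz hat]

/-- The order of a simple group of Janko-four type. -/
theorem card_of_type (hG : ¬ IsMulCommutative G) (hJ : Cfsg.IsOfJankoFourType G) :
    Nat.card G = 86775571046077562880 := by
  obtain ⟨z, P, hJ⟩ := hJ
  obtain ⟨S⟩ := exists_setting hJ
  obtain ⟨Fr⟩ := exists_frameA S
  exact Fr.card_group hG

end Cfsg.Agent.Spor.JFour
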