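import Cfsg.Agent.Lib.Spor.JFourType.OrderH.RowData

/-!
Evaluation of the rows of pairs of classes.
-/

set_option autoImplicit false
set_option maxRecDepth 100000
set_option Elab.async false

namespace Cfsg.Agent.Spor.JFour.OrderH

/-- Correctness of a row. -/
noncomputable def rowOK0 (i : ℕ) : Bool :=
  let e := rows0.getD i ([], [], [], 0)
  pairOK (repWords.getD 0 []) e.1 (repLifts.getD 0 []) e.2.1 e.2.2.1 e.2.2.2

theorem row0_0 : rowOK0 0 = true := by decide +kernel

theorem row0_1 : rowOK0 1 = true := by decide +kernel

theorem row0_2 : rowOK0 2 = true := by decide +kernel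

theorem row0_3 : rowOK0 3 = true := by decide +kernel


end Cfsg.Agent.Spor.JFour.OrderH
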