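import Cfsg.Agent.Lib.Spor.JFourType.OrderH.Defs

/-! Words, lifts and product data for the pairs of classes. -/

set_option autoImplicit false
set_option maxRecDepth 100000
set_option Elab.async false

namespace Cfsg.Agent.Spor.JFour.OrderH

/-- Words over the representatives of the classes. -/
def repWords : List (List ℕ) := [[], [8, 8, 9, 4], [5, 1, 0, 8, 3, 8, 1, 0], [6, 8, 9, 6, 0, 7, 0]]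

/-- Their lifts. -/
def repLifts : List (List Lf) := [
    [(0, [], []), (4, [], []), (4, [], [])],
    [(2, [6, 6, 6, 6, 6, 6, 6, 6, 6, 6, 6, 7, 6, 6, 6, 6, 6, 6, 6, 6, 6, 6, 6], [6, 7, 6]), (2, [4, 4, 6, 6, 6, 6, 6, 6, 6, 6, 6, 6, 6, 9], [9, 6, 4]), (2, [4, 4, 6, 6, 6, 6, 6, 6, 6, 6, 6, 6, 6], [6, 4])],
    [(1, [8, 8, 8, 8, 8, 8, 8, 8, 8, 8, 8, 3, 5, 5, 8, 8, 8, 8, 8, 8, 8, 8, 8, 8, 8, 0], [0, 8, 5, 3, 8]), (4, [], []), (4, [], [])],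
    [(3, [8, 6, 2, 5, 5, 8, 8, 8, 8, 8, 8, 8, 8, 8, 8, 8, 0, 3], [3, 0, 8, 5, 2, 6, 6, 6, 6, 6, 6, 6, 6, 6, 6, 6, 8, 8, 8, 8, 8, 8, 8, 8, 8, 8, 8]), (3, [8, 6, 1, 2, 4, 4, 8, 8, 8, 8, 8, 8, 8, 8, 8, 8, 8, 0], [0, 8, 4, 2, 1, 6, 6, 6, 6, 6, 6, 6, 6, 6, 6, 6, 8, 8, 8, 8, 8, 8, 8, 8, 8, 8, 8]), (3, [8, 6, 0, 3, 8, 8, 8, 8, 8, 8, 8, 8, 8, 8, 8, 2, 7, 5, 5], [5, 7, 2, 8, 3, 0, 6, 6, 6, 6, 6, 6, 6, 6, 6, 6, 6, 8, 8, 8, 8, 8, 8, 8, 8, 8, 8, 8])]]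

/-- Data. -/
def rows0 : List (List ℕ × List Lf × List (ℕ × ℕ × List ℕ) × ℕ) := [
    ([], [(0, [], []), (4, [], []), (4, [], [])], [(1, 4, []), (0, 4, []), (0, 4, []), (0, 4, []), (0, 4, []), (0, 4, []), (0, 4, []), (0, 4, []), (0, 4, [])], 1951488),
    ([8, 8, 9, 4], [(2, [6, 6, 6, 6, 6, 6, 6, 6, 6, 6, 6, 7, 6, 6, 6, 6, 6, 6, 6, 6, 6, 6, 6], [6, 7, 6]), (2, [4, 4, 6, 6, 6, 6, 6, 6, 6, 6, 6, 6, 6, 9], [9, 6, 4]), (2, [4, 4, 6, 6, 6, 6, 6, 6, 6, 6, 6, 6, 6], [6, 4])], [(2, 2, [6, 6, 6, 6, 6, 6, 6, 6, 6, 6, 6, 7, 6, 6, 6, 6, 6, 6, 6, 6, 6, 6, 6]), (2, 2, [4, 4, 6, 6, 6, 6, 6, 6, 6, 6, 6, 6, 6, 9]), (2, 2, [4, 4, 6, 6, 6, 6, 6, 6, 6, 6, 6, 6, 6]), (0, 4,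 []), (0, 4, []), (0, 4, []), (0, 4, []), (0, 4, []), (0, 4, [])], 0),
    ([5, 1, 0, 8, 3, 8, 1, 0], [(1, [8, 8, 8, 8, 8, 8, 8, 8, 8, 8, 8, 3, 5, 5, 8, 8, 8, 8, 8, 8, 8, 8, 8, 8, 8, 0], [0, 8, 5, 3, 8]), (4, [], []), (4, [], [])], [(2, 1, [8, 8, 8, 8, 8, 8, 8, 8, 8, 8, 8, 3, 5, 5, 8, 8, 8, 8, 8, 8, 8, 8, 8, 8, 8, 0]), (0, 4, []), (0, 4, []), (0, 4, []), (0, 4, []), (0, 4, []), (0, 4, []), (0, 4, []), (0, 4, [])], 12288),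
    ([6, 8, 9, 6, 0, 7, 0], [(3, [8, 6, 2, 5, 5, 8, 8, 8, 8, 8, 8, 8, 8, 8, 8, 8, 0, 3], [3, 0, 8, 5, 2, 6, 6, 6, 6, 6, 6, 6, 6, 6, 6, 6, 8, 8, 8, 8, 8, 8, 8, 8, 8, 8, 8]), (3, [8, 6, 1, 2, 4, 4, 8, 8, 8, 8, 8, 8, 8, 8, 8, 8, 8, 0], [0, 8, 4, 2, 1, 6, 6, 6, 6, 6, 6, 6, 6, 6, 6, 6, 8, 8, 8, 8, 8, 8, 8, 8, 8, 8, 8]), (3, [8, 6, 0, 3, 8, 8, 8, 8, 8, 8, 8, 8, 8, 8, 8, 2, 7, 5, 5], [5, 7, 2, 8, 3, 0, 6, 6, 6, 6, 6, 6, 6, 6, 6, 6, 6, 8, 8, 8, 8, 8, 8, 8, 8, 8, 8, 8])], [(2, 3, [8, 6, 2, 5, 5, 8, 8, 8, 8, 8, 8, 8, 8, 8, 8, 8, 0, 3]), (2, 3, [8, 6, 1, 2, 4, 4, 8, 8, 8, 8, 8, 8, 8, 8, 8, 8, 8, 0]), (2, 3, [8, 6, 0, 3, 8, 8, 8, 8, 8, 8, 8, 8, 8, 8, 8, 2, 7, 5, 5]),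 (0, 4, []), (0, 4, []), (0, 4, []), (0, 4, []), (0, 4, []), (0, 4, [])], 245760)]

/-- Data. -/
def rows1 : List (List ℕ × List Lf × List (ℕ × ℕ × List ℕ) × ℕ) := [
    ([], [(0, [], []), (4, [], []), (4, [], [])], [(2, 2, [6, 6, 6, 6, 6, 6, 6, 6, 6, 6, 6, 7, 6, 6, 6, 6, 6, 6, 6, 6, 6, 6, 6]), (0, 4, []), (0, 4, []), (2, 2, [4, 4, 6, 6, 6, 6, 6, 6, 6, 6, 6, 6, 6, 9]), (0, 4, []), (0, 4, []), (2, 2, [4, 4, 6, 6, 6, 6, 6, 6, 6, 6, 6, 6, 6]), (0, 4, []), (0, 4, [])], 0),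
    ([8, 8, 9, 4], [(2, [6, 6, 6, 6, 6, 6, 6, 6, 6, 6, 6, 7, 6, 6, 6, 6, 6, 6, 6, 6, 6, 6, 6], [6, 7, 6]), (2, [4, 4, 6, 6, 6, 6, 6, 6, 6, 6, 6, 6, 6, 9], [9, 6, 4]), (2, [4, 4, 6, 6, 6, 6, 6, 6, 6, 6, 6, 6, 6], [6, 4])], [(1, 4, []), (3, 4, []), (3, 4, []), (3, 4, []), (1, 4, []), (3, 4, []), (3, 4, []), (3, 4, []), (1, 4, [])], 24768),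
    ([9, 5, 8, 7, 1, 8, 6, 6], [(2, [0, 8, 8, 8, 8, 8, 8, 8, 8, 8, 8, 8, 3, 7, 0], [0, 7, 3, 8, 0]), (2, [0, 7, 8, 8, 8, 8, 8, 8, 8, 8, 8, 8, 8], [8, 7, 0]), (2, [1, 7, 4, 4, 6, 6, 6, 6, 6, 6, 6, 6, 6, 6, 6, 8, 8, 8, 8, 8, 8, 8, 8, 8, 8, 8], [8, 6, 4, 7, 1])], [(6, 1, [4, 4, 8, 8, 8, 8, 8, 8, 8, 8, 8, 8, 8, 7, 5, 5]), (2, 1, [4, 4, 8, 8, 8, 8, 8, 8, 8, 8, 8, 8, 8, 7, 5, 5]), (6, 1, [4, 4, 8, 8, 8, 8, 8, 8, 8, 8, 8, 8, 8, 7, 5, 5]), (6, 1, [4, 4, 8, 8, 8, 8, 8, 8, 8, 8, 8, 8, 8, 7, 5, 5]), (6, 1, [4, 4, 8, 8, 8, 8, 8, 8, 8, 8, 8, 8, 8, 7, 5, 5]), (2, 1, [4, 4, 8, 8, 8, 8, 8, 8, 8, 8, 8, 8, 8, 7, 5, 5]), (2, 1, [4, 4, 8, 8, 8, 8, 8, 8, 8, 8, 8, 8, 8, 7, 5,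 5]), (6, 1, [4, 4, 8, 8, 8, 8, 8, 8, 8, 8, 8, 8, 8, 7, 5, 5]), (6, 1, [4, 4, 8, 8, 8, 8, 8, 8, 8, 8, 8, 8, 8, 7, 5, 5])], 0),
    ([8, 3, 7, 9, 8, 3, 8, 4, 0], [(2, [0, 5, 5, 8, 8, 8, 8, 8, 8, 8, 8, 8, 8, 8, 0, 3], [3, 0, 8, 5, 0]), (2, [0, 1, 8, 8, 8, 8, 8, 8, 8, 8, 8, 8, 8, 3, 7, 0], [0, 7, 3, 8, 1, 0]), (2, [0, 8, 8, 8, 8, 8, 8, 8, 8, 8, 8, 8, 1, 4, 4, 8, 8, 8, 8, 8, 8, 8, 8, 8, 8, 8], [8, 4, 1, 8, 0])], [(6, 1, [8, 8, 8, 8, 8, 8, 8, 8, 8, 8, 8, 7, 6, 6, 6, 6, 6, 6, 6, 6, 6, 6, 6, 2, 8, 8, 8, 8, 8, 8, 8, 8, 8, 8, 8]), (6, 1, [8, 8, 8, 8, 8, 8, 8, 8, 8, 8, 8, 7, 6, 6, 6, 6, 6, 6, 6, 6, 6, 6, 6, 2, 8, 8, 8, 8, 8, 8, 8, 8, 8, 8, 8]), (2, 1, [8, 8, 8, 8,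 8, 8, 8, 8, 8, 8, 8, 7, 6, 6, 6, 6, 6, 6, 6, 6, 6, 6, 6, 2, 8, 8, 8, 8, 8, 8, 8, 8, 8, 8, 8]), (2, 1, [8, 8, 8, 8, 8, 8, 8, 8, 8, 8, 8, 7, 6, 6, 6, 6, 6, 6, 6, 6, 6, 6, 6, 2, 8, 8, 8, 8, 8, 8, 8, 8, 8, 8, 8]), (6, 1, [8, 8, 8, 8, 8, 8, 8, 8, 8, 8, 8, 7, 6, 6, 6, 6, 6, 6, 6, 6, 6, 6, 6, 2, 8, 8, 8, 8, 8, 8, 8, 8, 8, 8, 8]), (6, 1, [8, 8, 8, 8, 8, 8, 8, 8, 8, 8, 8, 7, 6, 6, 6, 6, 6, 6, 6, 6, 6, 6, 6, 2, 8, 8, 8, 8, 8, 8, 8, 8, 8, 8, 8]), (6, 1, [8, 8, 8, 8, 8, 8, 8, 8, 8, 8, 8, 7, 6, 6, 6, 6, 6, 6, 6, 6, 6, 6, 6, 2, 8, 8, 8, 8, 8, 8, 8, 8, 8, 8, 8]), (2, 1, [8, 8, 8, 8, 8, 8, 8, 8, 8, 8, 8, 7, 6, 6, 6, 6, 6, 6, 6, 6, 6, 6, 6, 2, 8, 8, 8, 8, 8, 8, 8, 8, 8,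 8, 8]), (6, 1, [8, 8, 8, 8, 8, 8, 8, 8, 8, 8, 8, 7, 6, 6, 6, 6, 6, 6, 6, 6, 6, 6, 6, 2, 8, 8, 8, 8, 8, 8, 8, 8, 8, 8, 8])], 0),
    ([9, 7, 6, 5, 4, 4, 0], [(2, [1, 4, 4, 6, 6, 6, 6, 6, 6, 6, 6, 6, 6, 6, 7], [7, 6, 4, 1]), (2, [0, 7, 5, 5, 6, 6, 6, 6, 6, 6, 6, 6, 6, 6, 6, 9], [9, 6, 5, 7, 0]), (2, [0, 7, 4, 4], [4, 7, 0])], [(3, 4, []), (3, 4, []), (3, 4, []), (3, 4, []), (3, 4, []), (3, 4, []), (3, 4, []), (3, 4, []), (3, 4, [])], 9216),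
    ([9, 3, 8, 7, 8, 6, 6, 4, 1], [(2, [5, 5, 7, 5, 5, 8, 8, 8, 8, 8, 8, 8, 8, 8, 8, 8, 1], [1, 8, 5, 7, 5]), (2, [0, 8, 8, 8, 8, 8, 8, 8, 8, 8, 8, 8, 1, 3], [3, 1, 8, 0]), (2, [0, 8, 8, 8, 8, 8, 8, 8, 8, 8, 8, 8, 6, 6, 6, 6, 6, 6, 6, 6, 6, 6, 6, 1, 4, 4], [4, 1, 6, 8, 0])], [(12, 1, [6, 6, 6, 6, 6, 6, 6, 6, 6, 6, 6, 8, 8, 8, 8, 8, 8, 8, 8, 8, 8, 8, 2, 7, 8, 8, 8, 8, 8, 8, 8, 8, 8, 8, 8]), (4, 1, [6, 6, 6, 6, 6, 6, 6, 6, 6, 6, 6, 8, 8, 8, 8, 8, 8, 8, 8, 8, 8, 8, 2, 7, 8, 8, 8, 8, 8, 8, 8, 8, 8, 8, 8]), (12, 1, [6, 6, 6, 6, 6, 6, 6, 6, 6, 6, 6, 8, 8, 8, 8, 8, 8, 8, 8, 8, 8, 8, 2, 7, 8, 8, 8, 8, 8, 8, 8, 8, 8, 8, 8]), (12, 1, [6, 6, 6, 6, 6, 6, 6, 6, 6, 6,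 6, 8, 8, 8, 8, 8, 8, 8, 8, 8, 8, 8, 2, 7, 8, 8, 8, 8, 8, 8, 8, 8, 8, 8, 8]), (12, 1, [6, 6, 6, 6, 6, 6, 6, 6, 6, 6, 6, 8, 8, 8, 8, 8, 8, 8, 8, 8, 8, 8, 2, 7, 8, 8, 8, 8, 8, 8, 8, 8, 8, 8, 8]), (4, 1, [6, 6, 6, 6, 6, 6, 6, 6, 6, 6, 6, 8, 8, 8, 8, 8, 8, 8, 8, 8, 8, 8, 2, 7, 8, 8, 8, 8, 8, 8, 8, 8, 8, 8, 8]), (4, 1, [6, 6, 6, 6, 6, 6, 6, 6, 6, 6, 6, 8, 8, 8, 8, 8, 8, 8, 8, 8, 8, 8, 2, 7, 8, 8, 8, 8, 8, 8, 8, 8, 8, 8, 8]), (12, 1, [6, 6, 6, 6, 6, 6, 6, 6, 6, 6, 6, 8, 8, 8, 8, 8, 8, 8, 8, 8, 8, 8, 2, 7, 8, 8, 8, 8, 8, 8, 8, 8, 8, 8, 8]), (12, 1, [6, 6, 6, 6, 6, 6, 6, 6, 6, 6, 6, 8, 8, 8, 8, 8, 8, 8, 8, 8, 8, 8, 2, 7, 8, 8, 8, 8, 8, 8, 8, 8, 8, 8, 8])], 0),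
    ([5, 1, 0, 8, 3, 8, 1, 0], [(1, [8, 8, 8, 8, 8, 8, 8, 8, 8, 8, 8, 3, 5, 5, 8, 8, 8, 8, 8, 8, 8, 8, 8, 8, 8, 0], [0, 8, 5, 3, 8]), (4, [], []), (4, [], [])], [(4, 1, [6, 6, 6, 6, 6, 6, 6, 6, 6, 6, 6, 8, 8, 8, 8, 8, 8, 8, 8, 8, 8, 8, 7, 6, 6, 6, 6, 6, 6, 6, 6, 6, 6, 6, 2, 8, 8, 8, 8, 8, 8, 8, 8, 8, 8, 8]), (0, 4, []), (0, 4, []), (4, 1, [6, 6, 6, 6, 6, 6, 6, 6, 6, 6, 6, 8, 8, 8, 8, 8, 8, 8, 8, 8, 8, 8, 7, 6, 6, 6, 6, 6, 6, 6, 6, 6, 6, 6, 2, 8, 8, 8, 8, 8, 8, 8, 8, 8, 8, 8]), (0, 4, []), (0, 4, []), (4, 1, [6, 6, 6, 6, 6, 6, 6, 6, 6, 6, 6, 8, 8, 8, 8, 8, 8, 8, 8, 8, 8, 8, 7, 6, 6, 6, 6, 6, 6, 6, 6, 6, 6, 6, 2, 8, 8, 8, 8, 8, 8, 8, 8, 8, 8, 8]), (0, 4, []),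 (0, 4, [])], 0),
    ([6, 8, 7, 6, 4, 8], [(1, [7, 8, 8, 8, 8, 8, 8, 8, 8, 8, 8, 8, 1, 8, 8, 8, 8, 8, 8, 8, 8, 8, 8, 8, 4, 4, 7], [7, 4, 8, 1, 8, 7]), (4, [], []), (4, [], [])], [(2, 2, [1, 8, 8, 8, 8, 8, 8, 8, 8, 8, 8, 8, 0]), (0, 4, []), (0, 4, []), (2, 2, [8, 8, 8, 8, 8, 8, 8, 8, 8, 8, 8, 7, 8, 8, 8, 8, 8, 8, 8, 8, 8, 8, 8, 4, 4]), (0, 4, []), (0, 4, []), (2, 2, [8, 8, 8, 8, 8, 8, 8, 8, 8, 8, 8, 6, 6, 6, 6, 6, 6, 6, 6, 6, 6, 6, 7, 8, 8, 8, 8, 8, 8, 8, 8, 8, 8, 8]), (0, 4, []), (0, 4, [])], 0),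
    ([0, 7, 8, 4, 8, 7, 0], [(4, [], []), (1, [7, 5, 5, 8, 8, 8, 8, 8, 8, 8, 8, 8, 8, 8, 3, 8, 8, 8, 8, 8, 8, 8, 8, 8, 8, 8, 0], [0, 8, 3, 8, 5, 7]), (4, [], [])], [(0, 4, []), (2, 2, [0, 5, 5, 7, 6, 6, 6, 6, 6, 6, 6, 6, 6, 6, 6, 8, 8, 8, 8, 8, 8, 8, 8, 8, 8, 8]), (0, 4, []), (0, 4, []), (2, 2, [8, 8, 8, 8, 8, 8, 8, 8, 8, 8, 8, 1, 7, 9]), (0, 4, []), (0, 4, []), (2, 2, [0, 1, 7, 4, 8, 8, 8, 8, 8, 8, 8, 8, 8, 8, 8]), (0, 4, [])], 0),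
    ([8, 6, 7, 2, 5, 8, 7, 4], [(1, [7, 8, 8, 8, 8, 8, 8, 8, 8, 8, 8, 8, 3, 5, 5, 8, 8, 8, 8, 8, 8, 8, 8, 8, 8, 8, 0], [0, 8, 5, 3, 8, 7]), (4, [], []), (4, [], [])], [(6, 2, [1, 8, 8, 8, 8, 8, 8, 8, 8, 8, 8, 8, 0, 1, 3]), (0, 4, []), (0, 4, []), (6, 2, [1, 5, 5, 7, 8, 8, 8, 8, 8, 8, 8, 8, 8, 8, 8, 7]), (0, 4, []), (0, 4, []), (6, 2, [0, 8, 8, 8, 8, 8, 8, 8, 8, 8, 8, 8, 0, 1, 8, 8, 8, 8, 8, 8, 8, 8, 8, 8, 8]), (0, 4, []), (0, 4, [])], 0),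
    ([4, 7, 6, 7], [(1, [6, 6, 6, 6, 6, 6, 6, 6, 6, 6, 6, 8, 8, 8, 8, 8, 8, 8, 8, 8, 8, 8, 0, 7, 8, 8, 8, 8, 8, 8, 8, 8, 8, 8, 8, 7], [7, 8, 7, 0, 8, 6]), (4, [], []), (4, [], [])], [(4, 1, [8, 8, 8, 8, 8, 8, 8, 8, 8, 8, 8, 0, 7, 5, 5, 8, 8, 8, 8, 8, 8, 8, 8, 8, 8, 8, 7]), (0, 4, []), (0, 4, []), (4, 1, [8, 8, 8, 8, 8, 8, 8, 8, 8, 8, 8, 0, 7, 5, 5, 8, 8, 8, 8, 8, 8, 8, 8, 8, 8, 8, 7]), (0, 4, []), (0, 4, []), (4, 1, [8, 8, 8, 8, 8, 8, 8, 8, 8, 8, 8, 0, 7, 5, 5, 8, 8, 8, 8, 8, 8, 8, 8, 8, 8, 8, 7]), (0, 4, []), (0, 4, [])], 0),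
    ([0, 7, 8, 0, 8, 8, 8, 7, 0], [(4, [], []), (4, [], []), (1, [8, 8, 8, 8, 8, 8, 8, 8, 8, 8, 8, 7, 0], [0, 7, 8])], [(0, 4, []), (0, 4, []), (2, 3, [8, 6, 2, 7, 8, 8, 8, 8, 8, 8, 8, 8, 8, 8, 8]), (0, 4, []), (0, 4, []), (2, 3, [8, 6, 4, 4, 7, 4, 4]), (0, 4, []), (0, 4, []), (2, 3, [8, 6, 4, 4, 5, 5, 7, 4, 4, 7])], 0),
    ([7, 8, 2, 1, 8, 7], [(4, [], []), (1, [7, 8, 8, 8, 8, 8, 8, 8, 8, 8, 8, 8, 6, 6, 6, 6, 6, 6, 6, 6, 6, 6, 6], [6, 8, 7]), (4, [], [])], [(0, 4, []), (4, 1, [6, 6, 6, 6, 6, 6, 6, 6, 6, 6, 6, 8, 8, 8, 8, 8, 8, 8, 8, 8, 8, 8]), (0, 4, []), (0, 4, []), (4, 1, [6, 6, 6, 6, 6, 6, 6, 6, 6, 6, 6, 8, 8, 8, 8, 8, 8, 8, 8, 8, 8, 8]), (0, 4, []),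 (0, 4, []), (4, 1, [6, 6, 6, 6, 6, 6, 6, 6, 6, 6, 6, 8, 8, 8, 8, 8, 8, 8, 8, 8, 8, 8]), (0, 4, [])], 0),
    ([6, 8, 9, 6, 0, 7, 0], [(3, [8, 6, 2, 5, 5, 8, 8, 8, 8, 8, 8, 8, 8, 8, 8, 8, 0, 3], [3, 0, 8, 5, 2, 6, 6, 6, 6, 6, 6, 6, 6, 6, 6, 6, 8, 8, 8, 8, 8, 8, 8, 8, 8, 8, 8]), (3, [8, 6, 1, 2, 4, 4, 8, 8, 8, 8, 8, 8, 8, 8, 8, 8, 8, 0], [0, 8, 4, 2, 1, 6, 6, 6, 6, 6, 6, 6, 6, 6, 6, 6, 8, 8, 8, 8, 8, 8, 8, 8, 8, 8, 8]), (3, [8, 6, 0, 3, 8, 8, 8, 8, 8, 8, 8, 8, 8, 8, 8, 2, 7, 5, 5], [5, 7, 2, 8, 3, 0, 6, 6, 6, 6, 6, 6, 6, 6, 6, 6, 6, 8, 8, 8, 8, 8, 8, 8, 8, 8, 8, 8])], [(12, 1, [7, 4, 4, 8, 8, 8, 8, 8, 8, 8, 8, 8, 8, 8, 3, 8, 8, 8, 8, 8, 8, 8, 8, 8, 8, 8, 2]),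 (12, 1, [7, 4, 4, 8, 8, 8, 8, 8, 8, 8, 8, 8, 8, 8, 3, 8, 8, 8, 8, 8, 8, 8, 8, 8, 8, 8, 2]), (4, 1, [7, 4, 4, 8, 8, 8, 8, 8, 8, 8, 8, 8, 8, 8, 3, 8, 8, 8, 8, 8, 8, 8, 8, 8, 8, 8, 2]), (4, 1, [7, 4, 4, 8, 8, 8, 8, 8, 8, 8, 8, 8, 8, 8, 3, 8, 8, 8, 8, 8, 8, 8, 8, 8, 8, 8, 2]), (12, 1, [7, 4, 4, 8, 8, 8, 8, 8, 8, 8, 8, 8, 8, 8, 3, 8, 8, 8, 8, 8, 8, 8, 8, 8, 8, 8, 2]), (12, 1, [7, 4, 4, 8, 8, 8, 8, 8, 8, 8, 8, 8, 8, 8, 3, 8, 8, 8, 8, 8, 8, 8, 8, 8, 8, 8, 2]), (12, 1, [7, 4, 4, 8, 8, 8, 8, 8, 8, 8, 8, 8, 8, 8, 3, 8, 8, 8, 8, 8, 8, 8, 8, 8, 8, 8, 2]), (4, 1, [7, 4, 4, 8, 8, 8, 8, 8, 8, 8, 8, 8, 8, 8, 3, 8, 8, 8, 8, 8, 8, 8, 8, 8, 8, 8, 2]), (12, 1, [7, 4, 4, 8,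 8, 8, 8, 8, 8, 8, 8, 8, 8, 8, 3, 8, 8, 8, 8, 8, 8, 8, 8, 8, 8, 8, 2])], 0),
    ([3, 0, 8, 9, 0, 7, 4, 6, 0], [(3, [8, 6, 7, 5, 5, 9, 8, 8, 8, 8, 8, 8, 8, 8, 8, 8, 8], [8, 9, 5, 7, 6, 6, 6, 6, 6, 6, 6, 6, 6, 6, 6, 8, 8, 8, 8, 8, 8, 8, 8, 8, 8, 8]), (3, [8, 6, 0, 8, 8, 8, 8, 8, 8, 8, 8, 8, 8, 8, 3, 4, 4, 6, 6, 6, 6, 6, 6, 6, 6, 6, 6, 6], [6, 4, 3, 8, 0, 6, 6, 6, 6, 6, 6, 6, 6, 6, 6, 6, 8, 8, 8, 8, 8, 8, 8, 8, 8, 8, 8]), (3, [8, 6, 0, 6, 6, 6, 6, 6, 6, 6, 6, 6, 6, 6, 8, 8, 8, 8, 8, 8, 8, 8, 8, 8, 8, 5, 5, 2], [2, 5, 8, 6, 0, 6, 6, 6, 6, 6, 6, 6, 6, 6, 6, 6, 8, 8, 8, 8, 8, 8, 8, 8, 8, 8, 8])], [(12, 1, [6, 6, 6, 6, 6, 6, 6, 6, 6, 6, 6, 8, 8, 8, 8, 8, 8, 8,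 8, 8, 8, 8, 7, 6, 6, 6, 6, 6, 6, 6, 6, 6, 6, 6, 2, 8, 8, 8, 8, 8, 8, 8, 8, 8, 8, 8]), (12, 1, [6, 6, 6, 6, 6, 6, 6, 6, 6, 6, 6, 8, 8, 8, 8, 8, 8, 8, 8, 8, 8, 8, 7, 6, 6, 6, 6, 6, 6, 6, 6, 6, 6, 6, 2, 8, 8, 8, 8, 8, 8, 8, 8, 8, 8, 8]), (4, 1, [6, 6, 6, 6, 6, 6, 6, 6, 6, 6, 6, 8, 8, 8, 8, 8, 8, 8, 8, 8, 8, 8, 7, 6, 6, 6, 6, 6, 6, 6, 6, 6, 6, 6, 2, 8, 8, 8, 8, 8, 8, 8, 8, 8, 8, 8]), (4, 1, [6, 6, 6, 6, 6, 6, 6, 6, 6, 6, 6, 8, 8, 8, 8, 8, 8, 8, 8, 8, 8, 8, 7, 6, 6, 6, 6, 6, 6, 6, 6, 6, 6, 6, 2, 8, 8, 8, 8, 8, 8, 8, 8, 8, 8, 8]), (12, 1, [6, 6, 6, 6, 6, 6, 6, 6, 6, 6, 6, 8, 8, 8, 8, 8, 8, 8, 8, 8, 8, 8, 7, 6, 6, 6, 6, 6, 6, 6, 6, 6, 6, 6, 2, 8, 8, 8, 8, 8, 8,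 8, 8, 8, 8, 8]), (12, 1, [6, 6, 6, 6, 6, 6, 6, 6, 6, 6, 6, 8, 8, 8, 8, 8, 8, 8, 8, 8, 8, 8, 7, 6, 6, 6, 6, 6, 6, 6, 6, 6, 6, 6, 2, 8, 8, 8, 8, 8, 8, 8, 8, 8, 8, 8]), (12, 1, [6, 6, 6, 6, 6, 6, 6, 6, 6, 6, 6, 8, 8, 8, 8, 8, 8, 8, 8, 8, 8, 8, 7, 6, 6, 6, 6, 6, 6, 6, 6, 6, 6, 6, 2, 8, 8, 8, 8, 8, 8, 8, 8, 8, 8, 8]), (4, 1, [6, 6, 6, 6, 6, 6, 6, 6, 6, 6, 6, 8, 8, 8, 8, 8, 8, 8, 8, 8, 8, 8, 7, 6, 6, 6, 6, 6, 6, 6, 6, 6, 6, 6, 2, 8, 8, 8, 8, 8, 8, 8, 8, 8, 8, 8]), (12, 1, [6, 6, 6, 6, 6, 6, 6, 6, 6, 6, 6, 8, 8, 8, 8, 8, 8, 8, 8, 8, 8, 8, 7, 6, 6, 6, 6, 6, 6, 6, 6, 6, 6, 6, 2, 8, 8, 8, 8, 8, 8, 8, 8, 8, 8, 8])], 0),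
    ([6, 8, 9, 3, 0, 8, 5], [(3, [8, 6, 4, 4, 8, 8, 8, 8, 8, 8, 8, 8, 8, 8, 8, 0, 8, 8, 8, 8, 8, 8, 8, 8, 8, 8, 8], [8, 0, 8, 4, 6, 6, 6, 6, 6, 6, 6, 6, 6, 6, 6, 8, 8, 8, 8, 8, 8, 8, 8, 8, 8, 8]), (3, [8, 6, 0, 6, 6, 6, 6, 6, 6, 6, 6, 6, 6, 6, 7, 5, 5, 2, 4, 4], [4, 2, 5, 7, 6, 0, 6, 6, 6, 6, 6, 6, 6, 6, 6, 6, 6, 8, 8, 8, 8, 8, 8, 8, 8, 8, 8, 8]), (3, [8, 6, 2, 7, 8, 8, 8, 8, 8, 8, 8, 8, 8, 8, 8, 1, 3], [3, 1, 8, 7, 2, 6, 6, 6, 6, 6, 6, 6, 6, 6, 6, 6, 8, 8, 8, 8, 8, 8, 8, 8, 8, 8, 8])], [(6, 1, [8, 8, 8, 8, 8, 8, 8, 8, 8, 8, 8, 3, 7, 0]), (6, 1, [8, 8, 8, 8, 8, 8, 8, 8, 8, 8, 8, 3, 7, 0]), (2, 1, [8, 8, 8, 8, 8, 8, 8, 8, 8, 8, 8, 3, 7, 0]), (2, 1, [8, 8,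 8, 8, 8, 8, 8, 8, 8, 8, 8, 3, 7, 0]), (6, 1, [8, 8, 8, 8, 8, 8, 8, 8, 8, 8, 8, 3, 7, 0]), (6, 1, [8, 8, 8, 8, 8, 8, 8, 8, 8, 8, 8, 3, 7, 0]), (6, 1, [8, 8, 8, 8, 8, 8, 8, 8, 8, 8, 8, 3, 7, 0]), (2, 1, [8, 8, 8, 8, 8, 8, 8, 8, 8, 8, 8, 3, 7, 0]), (6, 1, [8, 8, 8, 8, 8, 8, 8, 8, 8, 8, 8, 3, 7, 0])], 0),
    ([7, 9, 8, 5, 5, 7, 0, 4], [(3, [8, 6, 0, 4, 4, 6, 6, 6, 6, 6, 6, 6, 6, 6, 6, 6, 8, 8, 8, 8, 8, 8, 8, 8, 8, 8, 8, 0], [0, 8, 6, 4, 0, 6, 6, 6, 6, 6, 6, 6, 6, 6, 6, 6, 8, 8, 8, 8, 8, 8, 8, 8, 8, 8, 8]), (3, [8, 6, 0, 8, 8, 8, 8, 8, 8, 8, 8, 8, 8, 8, 4, 4, 7, 6, 6, 6, 6, 6, 6, 6, 6, 6, 6, 6], [6, 7, 4, 8, 0, 6, 6, 6, 6, 6, 6, 6, 6, 6, 6, 6, 8, 8, 8, 8, 8,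 8, 8, 8, 8, 8, 8]), (3, [8, 6, 0, 5, 5, 8, 8, 8, 8, 8, 8, 8, 8, 8, 8, 8, 7, 3], [3, 7, 8, 5, 0, 6, 6, 6, 6, 6, 6, 6, 6, 6, 6, 6, 8, 8, 8, 8, 8, 8, 8, 8, 8, 8, 8])], [(24, 1, [6, 6, 6, 6, 6, 6, 6, 6, 6, 6, 6, 8, 8, 8, 8, 8, 8, 8, 8, 8, 8, 8, 0, 8, 8, 8, 8, 8, 8, 8, 8, 8, 8, 8, 0, 8, 8, 8, 8, 8, 8, 8, 8, 8, 8, 8, 1]), (8, 1, [6, 6, 6, 6, 6, 6, 6, 6, 6, 6, 6, 8, 8, 8, 8, 8, 8, 8, 8, 8, 8, 8, 0, 8, 8, 8, 8, 8, 8, 8, 8, 8, 8, 8, 0, 8, 8, 8, 8, 8, 8, 8, 8, 8, 8, 8, 1]), (24, 1, [6, 6, 6, 6, 6, 6, 6, 6, 6, 6, 6, 8, 8, 8, 8, 8, 8, 8, 8, 8, 8, 8, 0, 8, 8, 8, 8, 8, 8, 8, 8, 8, 8, 8, 0, 8, 8, 8, 8, 8, 8, 8, 8, 8, 8, 8, 1]), (24, 1, [6, 6, 6, 6, 6, 6, 6, 6, 6, 6, 6,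 8, 8, 8, 8, 8, 8, 8, 8, 8, 8, 8, 0, 8, 8, 8, 8, 8, 8, 8, 8, 8, 8, 8, 0, 8, 8, 8, 8, 8, 8, 8, 8, 8, 8, 8, 1]), (24, 1, [6, 6, 6, 6, 6, 6, 6, 6, 6, 6, 6, 8, 8, 8, 8, 8, 8, 8, 8, 8, 8, 8, 0, 8, 8, 8, 8, 8, 8, 8, 8, 8, 8, 8, 0, 8, 8, 8, 8, 8, 8, 8, 8, 8, 8, 8, 1]), (8, 1, [6, 6, 6, 6, 6, 6, 6, 6, 6, 6, 6, 8, 8, 8, 8, 8, 8, 8, 8, 8, 8, 8, 0, 8, 8, 8, 8, 8, 8, 8, 8, 8, 8, 8, 0, 8, 8, 8, 8, 8, 8, 8, 8, 8, 8, 8, 1]), (8, 1, [6, 6, 6, 6, 6, 6, 6, 6, 6, 6, 6, 8, 8, 8, 8, 8, 8, 8, 8, 8, 8, 8, 0, 8, 8, 8, 8, 8, 8, 8, 8, 8, 8, 8, 0, 8, 8, 8, 8, 8, 8, 8, 8, 8, 8, 8, 1]), (24, 1, [6, 6, 6, 6, 6, 6, 6, 6, 6, 6, 6, 8, 8, 8, 8, 8, 8, 8, 8, 8, 8, 8, 0, 8, 8, 8, 8, 8, 8, 8,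 8, 8, 8, 8, 0, 8, 8, 8, 8, 8, 8, 8, 8, 8, 8, 8, 1]), (24, 1, [6, 6, 6, 6, 6, 6, 6, 6, 6, 6, 6, 8, 8, 8, 8, 8, 8, 8, 8, 8, 8, 8, 0, 8, 8, 8, 8, 8, 8, 8, 8, 8, 8, 8, 0, 8, 8, 8, 8, 8, 8, 8, 8, 8, 8, 8, 1])], 0),
    ([1, 8, 0, 4, 7, 6, 9], [(3, [8, 6, 0, 8, 8, 8, 8, 8, 8, 8, 8, 8, 8, 8, 6, 6, 6, 6, 6, 6, 6, 6, 6, 6, 6, 2], [2, 6, 8, 0, 6, 6, 6, 6, 6, 6, 6, 6, 6, 6, 6, 8, 8, 8, 8, 8, 8, 8, 8, 8, 8, 8]), (3, [8, 6, 0, 6, 6, 6, 6, 6, 6, 6, 6, 6, 6, 6, 8, 8, 8, 8, 8, 8, 8, 8, 8, 8, 8, 0, 1, 3], [3, 1, 0, 8, 6, 0, 6, 6, 6, 6, 6, 6, 6, 6, 6, 6, 6, 8, 8, 8, 8, 8, 8, 8, 8, 8, 8, 8]), (3, [8, 6, 3, 8, 8, 8, 8, 8, 8, 8, 8, 8, 8, 8, 2, 8, 8, 8, 8, 8, 8, 8, 8, 8, 8, 8,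 7], [7, 8, 2, 8, 3, 6, 6, 6, 6, 6, 6, 6, 6, 6, 6, 6, 8, 8, 8, 8, 8, 8, 8, 8, 8, 8, 8])], [(6, 1, [6, 6, 6, 6, 6, 6, 6, 6, 6, 6, 6, 8, 8, 8, 8, 8, 8, 8, 8, 8, 8, 8, 3, 8, 8, 8, 8, 8, 8, 8, 8, 8, 8, 8, 1, 2]), (6, 1, [6, 6, 6, 6, 6, 6, 6, 6, 6, 6, 6, 8, 8, 8, 8, 8, 8, 8, 8, 8, 8, 8, 3, 8, 8, 8, 8, 8, 8, 8, 8, 8, 8, 8, 1, 2]), (6, 1, [6, 6, 6, 6, 6, 6, 6, 6, 6, 6, 6, 8, 8, 8, 8, 8, 8, 8, 8, 8, 8, 8, 3, 8, 8, 8, 8, 8, 8, 8, 8, 8, 8, 8, 1, 2]), (6, 1, [6, 6, 6, 6, 6, 6, 6, 6, 6, 6, 6, 8, 8, 8, 8, 8, 8, 8, 8, 8, 8, 8, 3, 8, 8, 8, 8, 8, 8, 8, 8, 8, 8, 8, 1, 2]), (6, 1, [6, 6, 6, 6, 6, 6, 6, 6, 6, 6, 6, 8, 8, 8, 8, 8, 8, 8, 8, 8, 8, 8, 3, 8, 8, 8, 8, 8, 8, 8, 8,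 8, 8, 8, 1, 2]), (6, 1, [6, 6, 6, 6, 6, 6, 6, 6, 6, 6, 6, 8, 8, 8, 8, 8, 8, 8, 8, 8, 8, 8, 3, 8, 8, 8, 8, 8, 8, 8, 8, 8, 8, 8, 1, 2]), (6, 1, [6, 6, 6, 6, 6, 6, 6, 6, 6, 6, 6, 8, 8, 8, 8, 8, 8, 8, 8, 8, 8, 8, 3, 8, 8, 8, 8, 8, 8, 8, 8, 8, 8, 8, 1, 2]), (6, 1, [6, 6, 6, 6, 6, 6, 6, 6, 6, 6, 6, 8, 8, 8, 8, 8, 8, 8, 8, 8, 8, 8, 3, 8, 8, 8, 8, 8, 8, 8, 8, 8, 8, 8, 1, 2]), (6, 1, [6, 6, 6, 6, 6, 6, 6, 6, 6, 6, 6, 8, 8, 8, 8, 8, 8, 8, 8, 8, 8, 8, 3, 8, 8, 8, 8, 8, 8, 8, 8, 8, 8, 8, 1, 2])], 0)]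

/-- Data. -/
def rows2 : List (List ℕ × List Lf × List (ℕ × ℕ × List ℕ) × ℕ) := [
    ([], [(0, [], []), (4, [], []), (4, [], [])], [(2, 1, [8, 8, 8, 8, 8, 8, 8, 8, 8, 8, 8, 3, 5, 5, 8, 8, 8, 8, 8, 8, 8, 8, 8, 8, 8, 0]), (0, 4, []), (0, 4, []), (0, 4, []), (0, 4, []), (0, 4, []), (0, 4, []), (0, 4, []), (0, 4, [])], 9216),
    ([8, 8, 9, 4], [(2, [6, 6, 6, 6, 6, 6, 6, 6, 6, 6, 6, 7, 6, 6, 6, 6, 6, 6, 6, 6, 6, 6, 6], [6, 7, 6]), (2, [4, 4, 6, 6, 6, 6, 6, 6, 6, 6, 6, 6, 6, 9], [9, 6, 4]), (2, [4, 4, 6, 6, 6, 6, 6, 6, 6, 6, 6, 6, 6], [6, 4])], [(4, 1, [6, 6, 6, 6, 6, 6, 6, 6, 6, 6, 6, 8, 8, 8, 8, 8, 8, 8, 8, 8, 8, 8, 7, 6, 6, 6, 6, 6, 6, 6, 6, 6, 6, 6, 2,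 8, 8, 8, 8, 8, 8, 8, 8, 8, 8, 8]), (4, 1, [6, 6, 6, 6, 6, 6, 6, 6, 6, 6, 6, 8, 8, 8, 8, 8, 8, 8, 8, 8, 8, 8, 7, 6, 6, 6, 6, 6, 6, 6, 6, 6, 6, 6, 2, 8, 8, 8, 8, 8, 8, 8, 8, 8, 8, 8]), (4, 1, [6, 6, 6, 6, 6, 6, 6, 6, 6, 6, 6, 8, 8, 8, 8, 8, 8, 8, 8, 8, 8, 8, 7, 6, 6, 6, 6, 6, 6, 6, 6, 6, 6, 6, 2, 8, 8, 8, 8, 8, 8, 8, 8, 8, 8, 8]), (0, 4, []), (0, 4, []), (0, 4, []), (0, 4, []), (0, 4, []), (0, 4, [])], 0),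
    ([9, 5, 8, 7, 1, 8, 6, 6], [(2, [0, 8, 8, 8, 8, 8, 8, 8, 8, 8, 8, 8, 3, 7, 0], [0, 7, 3, 8, 0]), (2, [0, 7, 8, 8, 8, 8, 8, 8, 8, 8, 8, 8, 8], [8, 7, 0]), (2, [1, 7, 4, 4, 6, 6, 6, 6, 6, 6, 6, 6, 6, 6, 6, 8, 8, 8, 8, 8, 8, 8, 8, 8, 8, 8], [8, 6, 4, 7, 1])], [(2, 2, [0, 7, 8, 8, 8, 8, 8, 8, 8, 8, 8, 8, 8, 3, 7]), (2, 2, [0, 5, 5, 8, 8, 8, 8, 8, 8, 8, 8, 8, 8, 8, 7, 6, 6, 6, 6, 6, 6, 6, 6, 6, 6, 6]), (2, 2, [0, 8, 8, 8, 8, 8, 8, 8, 8, 8, 8, 8, 0, 2]), (0, 4, []), (0, 4, []), (0, 4, []), (0, 4, []), (0, 4, []), (0, 4, [])], 0),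
    ([9, 7, 6, 2, 8, 1, 0, 8, 2], [(2, [7, 8, 8, 8, 8, 8, 8, 8, 8, 8, 8, 8, 0, 4, 4, 8, 8, 8, 8, 8, 8, 8, 8, 8, 8, 8], [8, 4, 0, 8, 7]), (2, [0, 8, 8, 8, 8, 8, 8, 8, 8, 8, 8, 8, 2, 6, 6, 6, 6, 6, 6, 6, 6, 6, 6, 6, 8, 8, 8, 8, 8, 8, 8, 8, 8, 8, 8], [8, 6, 2, 8, 0]), (2, [0, 4, 4, 8, 8, 8, 8, 8, 8, 8, 8, 8, 8, 8, 3, 6, 6, 6, 6, 6, 6, 6, 6, 6, 6, 6, 7], [7, 6, 3, 8, 4, 0])], [(2, 2, [1, 8, 8, 8, 8, 8, 8, 8, 8, 8, 8, 8, 4, 4, 0]), (2, 2, [4, 4, 0, 8, 8, 8, 8, 8, 8, 8, 8, 8, 8, 8, 0]), (2, 2, [0, 6, 6, 6, 6, 6, 6, 6, 6, 6, 6, 6, 7, 8, 8, 8, 8, 8, 8, 8, 8, 8, 8, 8, 0]), (0, 4, []), (0, 4, []), (0, 4, []), (0, 4, []), (0, 4, []), (0, 4, [])], 0),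
    ([9, 4, 7, 6, 4, 4], [(2, [4, 7], [7, 4, 4]), (2, [7, 5, 5, 4, 4], [4, 5, 7]), (2, [5, 5, 7], [7, 5])], [(6, 2, [0, 8, 8, 8, 8, 8, 8, 8, 8, 8, 8, 8, 3, 7, 0]), (6, 2, [0, 7, 8, 8, 8, 8, 8, 8, 8, 8, 8, 8, 8]), (6, 2, [1, 7, 4, 4, 6, 6, 6, 6, 6, 6, 6, 6, 6, 6, 6, 8, 8, 8, 8, 8, 8, 8, 8, 8, 8, 8]), (0, 4, []), (0, 4, []), (0, 4, []), (0, 4, []), (0, 4, []), (0, 4, [])], 0),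
    ([7, 8, 6, 7, 9, 4, 3, 8, 7], [(2, [1, 8, 8, 8, 8, 8, 8, 8, 8, 8, 8, 8, 0, 1, 3], [3, 1, 0, 8, 1]), (2, [1, 5, 5, 7, 8, 8, 8, 8, 8, 8, 8, 8, 8, 8, 8, 7], [7, 8, 7, 5, 1]), (2, [0, 8, 8, 8, 8, 8, 8, 8, 8, 8, 8, 8, 0, 1, 8, 8, 8, 8, 8, 8, 8, 8, 8, 8, 8], [8, 1, 0, 8, 0])], [(4, 1, [8, 8, 8, 8, 8, 8, 8, 8, 8, 8, 8, 1, 6, 6, 6, 6, 6, 6, 6, 6, 6, 6, 6, 8, 8, 8, 8, 8, 8, 8, 8, 8, 8, 8, 2]), (4, 1, [8, 8, 8, 8, 8, 8, 8, 8, 8, 8, 8, 1, 6, 6, 6, 6, 6, 6, 6, 6, 6, 6, 6, 8, 8, 8, 8, 8, 8, 8, 8, 8, 8, 8, 2]), (4, 1, [8, 8, 8, 8, 8, 8, 8, 8, 8, 8, 8, 1, 6, 6, 6, 6, 6, 6, 6, 6, 6, 6, 6, 8, 8, 8, 8, 8, 8, 8, 8, 8, 8, 8, 2]), (0, 4, []), (0, 4, []), (0, 4, []), (0,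 4, []), (0, 4, []), (0, 4, [])], 0),
    ([4, 8, 3, 7, 9, 8, 3, 8, 1], [(2, [1, 8, 8, 8, 8, 8, 8, 8, 8, 8, 8, 8, 1, 8, 8, 8, 8, 8, 8, 8, 8, 8, 8, 8], [8, 1, 8, 1]), (2, [0, 1, 8, 8, 8, 8, 8, 8, 8, 8, 8, 8, 8, 1, 3], [3, 1, 8, 1, 0]), (2, [0, 4, 4, 8, 8, 8, 8, 8, 8, 8, 8, 8, 8, 8, 4, 4, 7, 3], [3, 7, 4, 8, 4, 0])], [(4, 1, [7, 8, 8, 8, 8, 8, 8, 8, 8, 8, 8, 8, 3, 5, 5, 8, 8, 8, 8, 8, 8, 8, 8, 8, 8, 8, 0]), (4, 1, [7, 8, 8, 8, 8, 8, 8, 8, 8, 8, 8, 8, 3, 5, 5, 8, 8, 8, 8, 8, 8, 8, 8, 8, 8, 8, 0]), (4, 1, [7, 8, 8, 8, 8, 8, 8, 8, 8, 8, 8, 8, 3, 5, 5, 8, 8, 8, 8, 8, 8, 8, 8, 8, 8, 8, 0]), (0, 4, []), (0, 4, []), (0, 4, []), (0, 4, []), (0, 4, []), (0, 4, [])],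 0),
    ([8, 9, 7, 0, 8, 5, 3, 8, 1], [(2, [0, 8, 8, 8, 8, 8, 8, 8, 8, 8, 8, 8, 7, 3, 6, 6, 6, 6, 6, 6, 6, 6, 6, 6, 6], [6, 3, 7, 8, 0]), (2, [0, 7, 8, 8, 8, 8, 8, 8, 8, 8, 8, 8, 8, 6, 6, 6, 6, 6, 6, 6, 6, 6, 6, 6, 2], [2, 6, 8, 7, 0]), (2, [1, 7, 8, 8, 8, 8, 8, 8, 8, 8, 8, 8, 8, 0], [0, 8, 7, 1])], [(2, 3, [8, 6, 0, 1, 8, 8, 8, 8, 8, 8, 8, 8, 8, 8, 8, 3, 4, 4, 6, 6, 6, 6, 6, 6, 6, 6, 6, 6, 6]), (2, 3, [8, 6, 2, 8, 8, 8, 8, 8, 8, 8, 8, 8, 8, 8, 1, 4, 4, 8, 8, 8, 8, 8, 8, 8, 8, 8, 8, 8]), (2, 3, [8, 6, 7, 8, 8, 8, 8, 8, 8, 8, 8, 8, 8, 8, 4, 4, 7, 5, 5]), (0, 4, []), (0, 4, []), (0, 4, []), (0, 4, []), (0, 4, []), (0, 4, [])], 0),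
    ([5, 1, 0, 8, 3, 8, 1, 0], [(1, [8, 8, 8, 8, 8, 8, 8, 8, 8, 8, 8, 3, 5, 5, 8, 8, 8, 8, 8, 8, 8, 8, 8, 8, 8, 0], [0, 8, 5, 3, 8]), (4, [], []), (4, [], [])], [(1, 4, []), (0, 4, []), (0, 4, []), (0, 4, []), (0, 4, []), (0, 4, []), (0, 4, []), (0, 4, []), (0, 4, [])], 12304),
    ([6, 8, 7, 6, 4, 8], [(1, [7, 8, 8, 8, 8, 8, 8, 8, 8, 8, 8, 8, 1, 8, 8, 8, 8, 8, 8, 8, 8, 8, 8, 8, 4, 4, 7], [7, 4, 8, 1, 8, 7]), (4, [], []), (4, [], [])], [(3, 4, []), (0, 4, []), (0, 4, []), (0, 4, []), (0, 4, []), (0, 4, []), (0, 4, []), (0, 4, []), (0, 4, [])], 12544),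
    ([5, 4, 3, 8, 7, 2, 8, 0], [(4, [], []), (1, [8, 8, 8, 8, 8, 8, 8, 8, 8, 8, 8, 2, 4, 4, 7, 8, 8, 8, 8, 8, 8, 8, 8, 8, 8, 8], [8, 7, 4, 2, 8]), (4, [], [])], [(0, 4, []), (4, 1, [6, 6, 6, 6, 6, 6, 6, 6, 6, 6, 6, 8, 8, 8, 8, 8, 8, 8, 8, 8, 8, 8, 7, 6, 6, 6, 6, 6, 6, 6, 6, 6, 6, 6, 2, 8, 8, 8, 8, 8, 8, 8, 8, 8, 8, 8]), (0, 4, []), (0, 4, []), (0, 4, []), (0, 4, []), (0, 4, []), (0, 4, []), (0, 4, [])], 6144),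
    ([7, 8, 0, 8, 7, 4, 1, 6], [(1, [7, 5, 5, 8, 8, 8, 8, 8, 8, 8, 8, 8, 8, 8, 7, 8, 8, 8, 8, 8, 8, 8, 8, 8, 8, 8, 6, 6, 6, 6, 6, 6, 6, 6, 6, 6, 6], [6, 8, 7, 8, 5, 7]), (4, [], []), (4, [], [])], [(2, 1, [8, 8, 8, 8, 8, 8, 8, 8, 8, 8, 8, 7, 8, 8, 8, 8, 8, 8, 8, 8, 8, 8, 8, 4, 4]), (0, 4, []), (0, 4, []), (0, 4, []), (0, 4, []), (0, 4, []), (0, 4, []), (0, 4, []), (0, 4, [])], 1536),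
    ([2, 8, 4, 2, 8, 2], [(4, [], []), (1, [8, 8, 8, 8, 8, 8, 8, 8, 8, 8, 8, 0, 8, 8, 8, 8, 8, 8, 8, 8, 8, 8, 8, 0, 4, 4, 6, 6, 6, 6, 6, 6, 6, 6, 6, 6, 6], [6, 4, 0, 8, 0, 8]), (4, [], [])], [(0, 4, []), (2, 1, [6, 6, 6, 6, 6, 6, 6, 6, 6, 6, 6, 8, 8, 8, 8, 8, 8, 8, 8, 8, 8, 8, 7, 6, 6, 6, 6, 6, 6, 6, 6, 6, 6, 6, 2, 8, 8, 8, 8, 8, 8, 8, 8, 8, 8, 8]), (0, 4, []), (0, 4, []), (0, 4, []), (0, 4, []), (0, 4, []), (0, 4, []), (0, 4, [])], 1536),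
    ([8, 6, 7, 2, 5, 8, 7, 4], [(1, [7, 8, 8, 8, 8, 8, 8, 8, 8, 8, 8, 8, 3, 5, 5, 8, 8, 8, 8, 8, 8, 8, 8, 8, 8, 8, 0], [0, 8, 5, 3, 8, 7]), (4, [], []), (4, [], [])], [(2, 1, [8, 8, 8, 8, 8, 8, 8, 8, 8, 8, 8, 2, 3, 8, 8, 8, 8, 8, 8, 8, 8, 8, 8, 8, 2]), (0, 4, []), (0, 4, []), (0, 4, []), (0, 4, []), (0, 4, []), (0, 4, []), (0, 4, []), (0, 4, [])], 0),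
    ([1, 8, 1, 8, 1, 8], [(1, [6, 6, 6, 6, 6, 6, 6, 6, 6, 6, 6, 8, 8, 8, 8, 8, 8, 8, 8, 8, 8, 8, 7, 8, 8, 8, 8, 8, 8, 8, 8, 8, 8, 8, 0, 3], [3, 0, 8, 7, 8, 6]), (4, [], []), (4, [], [])], [(4, 1, [6, 6, 6, 6, 6, 6, 6, 6, 6, 6, 6, 8, 8, 8, 8, 8, 8, 8, 8, 8, 8, 8, 3, 8, 8, 8, 8, 8, 8, 8, 8, 8, 8, 8, 7, 9]), (0, 4, []), (0, 4, []), (0, 4, []), (0, 4, []), (0, 4, []), (0, 4, []), (0, 4, []), (0, 4, [])], 0),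
    ([0, 8, 1, 8, 6, 3, 7], [(1, [6, 6, 6, 6, 6, 6, 6, 6, 6, 6, 6, 8, 8, 8, 8, 8, 8, 8, 8, 8, 8, 8, 2, 7, 8, 8, 8, 8, 8, 8, 8, 8, 8, 8, 8], [8, 7, 2, 8, 6]), (4, [], []), (4, [], [])], [(6, 1, [7, 5, 5, 8, 8, 8, 8, 8, 8, 8, 8, 8, 8, 8, 7, 8, 8, 8, 8, 8, 8, 8, 8, 8, 8, 8, 6, 6, 6, 6, 6, 6, 6, 6, 6, 6, 6]), (0, 4, []), (0, 4, []), (0, 4, []), (0, 4, []), (0, 4, []), (0, 4, []), (0, 4, []), (0, 4, [])], 6144),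
    ([0, 7, 4, 3, 8, 3, 7, 8], [(1, [6, 6, 6, 6, 6, 6, 6, 6, 6, 6, 6, 8, 8, 8, 8, 8, 8, 8, 8, 8, 8, 8, 3, 8, 8, 8, 8, 8, 8, 8, 8, 8, 8, 8, 1, 2], [2, 1, 8, 3, 8, 6]), (4, [], []), (4, [], [])], [(4, 1, [8, 8, 8, 8, 8, 8, 8, 8, 8, 8, 8, 1, 6, 6, 6, 6, 6, 6, 6, 6, 6, 6, 6, 8, 8, 8, 8, 8, 8, 8, 8, 8, 8, 8, 2]), (0, 4, []), (0, 4, []), (0, 4, []), (0, 4, []), (0, 4, []), (0, 4, []), (0, 4, []), (0, 4, [])], 0),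
    ([1, 0, 8, 1, 8, 1, 8, 0], [(1, [6, 6, 6, 6, 6, 6, 6, 6, 6, 6, 6, 8, 8, 8, 8, 8, 8, 8, 8, 8, 8, 8, 7, 8, 8, 8, 8, 8, 8, 8, 8, 8, 8, 8, 3], [3, 8, 7, 8, 6]), (4, [], []), (4, [], [])], [(4, 1, [8, 8, 8, 8, 8, 8, 8, 8, 8, 8, 8, 3, 5, 5, 8, 8, 8, 8, 8, 8, 8, 8, 8, 8, 8, 2]), (0, 4, []), (0, 4, []), (0, 4, []), (0, 4, []), (0, 4, []), (0, 4, []), (0, 4, []), (0, 4, [])], 0),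
    ([0], [(1, [], []), (4, [], []), (4, [], [])], [(5, 4, []), (0, 4, []), (0, 4, []), (0, 4, []), (0, 4, []), (0, 4, []), (0, 4, []), (0, 4, []), (0, 4, [])], 12544),
    ([6, 2, 8, 5, 7, 8, 5, 5, 0], [(4, [], []), (1, [6, 6, 6, 6, 6, 6, 6, 6, 6, 6, 6, 7, 8, 8, 8, 8, 8, 8, 8, 8, 8, 8, 8, 3, 6, 6, 6, 6, 6, 6, 6, 6, 6, 6, 6], [6, 3, 8, 7, 6]), (4, [], [])], [(0, 4, []), (4, 1, [8, 8, 8, 8, 8, 8, 8, 8, 8, 8, 8, 2, 7, 4, 4]), (0, 4, []), (0, 4, []), (0, 4, []), (0, 4, []), (0, 4, []), (0, 4, []), (0, 4, [])], 12288),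
    ([8, 6, 7, 2, 8, 6, 5, 2, 0], [(4, [], []), (1, [7, 8, 8, 8, 8, 8, 8, 8, 8, 8, 8, 8, 3, 5, 5, 8, 8, 8, 8, 8, 8, 8, 8, 8, 8, 8, 2], [2, 8, 5, 3, 8, 7]), (4, [], [])], [(0, 4, []), (2, 1, [8, 8, 8, 8, 8, 8, 8, 8, 8, 8, 8, 1, 6, 6, 6, 6, 6, 6, 6, 6, 6, 6, 6, 8, 8, 8, 8, 8, 8, 8, 8, 8, 8, 8, 0]), (0, 4, []), (0, 4, []), (0, 4, []), (0, 4, []), (0, 4, []), (0, 4, []), (0, 4, [])], 0),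
    ([6, 8, 9, 6, 0, 7, 0], [(3, [8, 6, 2, 5, 5, 8, 8, 8, 8, 8, 8, 8, 8, 8, 8, 8, 0, 3], [3, 0, 8, 5, 2, 6, 6, 6, 6, 6, 6, 6, 6, 6, 6, 6, 8, 8, 8, 8, 8, 8, 8, 8, 8, 8, 8]), (3, [8, 6, 1, 2, 4, 4, 8, 8, 8, 8, 8, 8, 8, 8, 8, 8, 8, 0], [0, 8, 4, 2, 1, 6, 6, 6, 6, 6, 6, 6, 6, 6, 6, 6, 8, 8, 8, 8, 8, 8, 8, 8, 8, 8, 8]), (3, [8, 6, 0, 3, 8, 8, 8, 8, 8, 8, 8, 8, 8, 8, 8, 2, 7, 5, 5], [5, 7, 2, 8, 3, 0, 6, 6, 6, 6, 6, 6, 6, 6, 6, 6, 6, 8, 8, 8, 8, 8, 8, 8, 8, 8, 8, 8])], [(2, 2, [1, 6, 6, 6, 6, 6, 6, 6, 6, 6, 6, 6, 8, 8, 8, 8, 8, 8, 8, 8, 8, 8, 8, 1, 3]), (2, 2, [0, 6, 6, 6, 6, 6, 6, 6, 6, 6, 6, 6, 7, 8, 8, 8, 8, 8, 8, 8, 8, 8, 8, 8, 0, 8, 8, 8, 8, 8, 8, 8, 8, 8,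 8, 8]), (2, 2, [1, 8, 8, 8, 8, 8, 8, 8, 8, 8, 8, 8, 4, 4, 0, 8, 8, 8, 8, 8, 8, 8, 8, 8, 8, 8]), (0, 4, []), (0, 4, []), (0, 4, []), (0, 4, []), (0, 4, []), (0, 4, [])], 0),
    ([6, 8, 9, 3, 0, 8, 5], [(3, [8, 6, 4, 4, 8, 8, 8, 8, 8, 8, 8, 8, 8, 8, 8, 0, 8, 8, 8, 8, 8, 8, 8, 8, 8, 8, 8], [8, 0, 8, 4, 6, 6, 6, 6, 6, 6, 6, 6, 6, 6, 6, 8, 8, 8, 8, 8, 8, 8, 8, 8, 8, 8]), (3, [8, 6, 0, 6, 6, 6, 6, 6, 6, 6, 6, 6, 6, 6, 7, 5, 5, 2, 4, 4], [4, 2, 5, 7, 6, 0, 6, 6, 6, 6, 6, 6, 6, 6, 6, 6, 6, 8, 8, 8, 8, 8, 8, 8, 8, 8, 8, 8]), (3, [8, 6, 2, 7, 8, 8, 8, 8, 8, 8, 8, 8, 8, 8, 8, 1, 3], [3, 1, 8, 7, 2, 6, 6, 6, 6, 6, 6, 6, 6, 6, 6, 6, 8, 8, 8, 8, 8, 8, 8, 8, 8, 8, 8])],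 [(8, 1, [7, 8, 8, 8, 8, 8, 8, 8, 8, 8, 8, 8, 7, 6, 6, 6, 6, 6, 6, 6, 6, 6, 6, 6]), (8, 1, [7, 8, 8, 8, 8, 8, 8, 8, 8, 8, 8, 8, 7, 6, 6, 6, 6, 6, 6, 6, 6, 6, 6, 6]), (8, 1, [7, 8, 8, 8, 8, 8, 8, 8, 8, 8, 8, 8, 7, 6, 6, 6, 6, 6, 6, 6, 6, 6, 6, 6]), (0, 4, []), (0, 4, []), (0, 4, []), (0, 4, []), (0, 4, []), (0, 4, [])], 24576),
    ([9, 7, 5, 7, 1, 8, 1, 0], [(3, [8, 6, 3, 7, 8, 8, 8, 8, 8, 8, 8, 8, 8, 8, 8, 7, 4, 4], [4, 7, 8, 7, 3, 6, 6, 6, 6, 6, 6, 6, 6, 6, 6, 6, 8, 8, 8, 8, 8, 8, 8, 8, 8, 8, 8]), (3, [8, 6, 0, 8, 8, 8, 8, 8, 8, 8, 8, 8, 8, 8, 7, 4, 4, 8, 8, 8, 8, 8, 8, 8, 8, 8, 8, 8, 3], [3, 8, 4, 7, 8, 0, 6, 6, 6, 6, 6, 6, 6, 6, 6, 6, 6, 8, 8, 8, 8, 8,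 8, 8, 8, 8, 8, 8]), (3, [8, 6, 3, 7, 6, 6, 6, 6, 6, 6, 6, 6, 6, 6, 6, 8, 8, 8, 8, 8, 8, 8, 8, 8, 8, 8, 4, 4], [4, 8, 6, 7, 3, 6, 6, 6, 6, 6, 6, 6, 6, 6, 6, 6, 8, 8, 8, 8, 8, 8, 8, 8, 8, 8, 8])], [(6, 2, [1, 6, 6, 6, 6, 6, 6, 6, 6, 6, 6, 6, 8, 8, 8, 8, 8, 8, 8, 8, 8, 8, 8, 1, 3]), (6, 2, [0, 6, 6, 6, 6, 6, 6, 6, 6, 6, 6, 6, 7, 8, 8, 8, 8, 8, 8, 8, 8, 8, 8, 8, 0, 8, 8, 8, 8, 8, 8, 8, 8, 8, 8, 8]), (6, 2, [1, 8, 8, 8, 8, 8, 8, 8, 8, 8, 8, 8, 4, 4, 0, 8, 8, 8, 8, 8, 8, 8, 8, 8, 8, 8]), (0, 4, []), (0, 4, []), (0, 4, []), (0, 4, []), (0, 4, []), (0, 4, [])], 0),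
    ([3, 1, 8, 0, 8, 9, 4, 3, 1], [(3, [8, 6, 0, 2, 8, 8, 8, 8, 8, 8, 8, 8, 8, 8, 9, 6, 6, 6, 6, 6, 6, 6, 6, 6, 6, 6], [6, 9, 8, 8, 2, 0, 6, 6, 6, 6, 6, 6, 6, 6, 6, 6, 6, 8, 8, 8, 8, 8, 8, 8, 8, 8, 8, 8]), (3, [8, 6, 0, 2, 6, 6, 6, 6, 6, 6, 6, 6, 6, 6, 6, 4, 4, 9], [9, 4, 6, 2, 0, 6, 6, 6, 6, 6, 6, 6, 6, 6, 6, 6, 8, 8, 8, 8, 8, 8, 8, 8, 8, 8, 8]), (3, [8, 6, 4, 4, 0, 6, 6, 6, 6, 6, 6, 6, 6, 6, 6, 6, 1], [1, 6, 0, 4, 6, 6, 6, 6, 6, 6, 6, 6, 6, 6, 6, 8, 8, 8, 8, 8, 8, 8, 8, 8, 8, 8])], [(4, 1, [8, 8, 8, 8, 8, 8, 8, 8, 8, 8, 8, 3, 8, 8, 8, 8, 8, 8, 8, 8, 8, 8, 8, 0, 3]), (4, 1, [8, 8, 8, 8, 8, 8, 8, 8, 8, 8, 8, 3, 8, 8, 8, 8, 8, 8, 8, 8, 8, 8, 8, 0, 3]), (4,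 1, [8, 8, 8, 8, 8, 8, 8, 8, 8, 8, 8, 3, 8, 8, 8, 8, 8, 8, 8, 8, 8, 8, 8, 0, 3]), (0, 4, []), (0, 4, []), (0, 4, []), (0, 4, []), (0, 4, []), (0, 4, [])], 0),
    ([7, 9, 8, 5, 5, 7, 0, 4], [(3, [8, 6, 0, 4, 4, 6, 6, 6, 6, 6, 6, 6, 6, 6, 6, 6, 8, 8, 8, 8, 8, 8, 8, 8, 8, 8, 8, 0], [0, 8, 6, 4, 0, 6, 6, 6, 6, 6, 6, 6, 6, 6, 6, 6, 8, 8, 8, 8, 8, 8, 8, 8, 8, 8, 8]), (3, [8, 6, 0, 8, 8, 8, 8, 8, 8, 8, 8, 8, 8, 8, 4, 4, 7, 6, 6, 6, 6, 6, 6, 6, 6, 6, 6, 6], [6, 7, 4, 8, 0, 6, 6, 6, 6, 6, 6, 6, 6, 6, 6, 6, 8, 8, 8, 8, 8, 8, 8, 8, 8, 8, 8]), (3, [8, 6, 0, 5, 5, 8, 8, 8, 8, 8, 8, 8, 8, 8, 8, 8, 7, 3], [3, 7, 8, 5, 0, 6, 6, 6, 6, 6, 6, 6, 6, 6, 6, 6, 8, 8, 8, 8, 8,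 8, 8, 8, 8, 8, 8])], [(2, 3, [8, 6, 3, 6, 6, 6, 6, 6, 6, 6, 6, 6, 6, 6, 2, 8, 8, 8, 8, 8, 8, 8, 8, 8, 8, 8]), (2, 3, [8, 6, 0, 3, 4, 8, 8, 8, 8, 8, 8, 8, 8, 8, 8, 8, 6, 6, 6, 6, 6, 6, 6, 6, 6, 6, 6]), (2, 3, [8, 6, 1, 2, 6, 6, 6, 6, 6, 6, 6, 6, 6, 6, 6, 9, 8, 8, 8, 8, 8, 8, 8, 8, 8, 8, 8]), (0, 4, []), (0, 4, []), (0, 4, []), (0, 4, []), (0, 4, []), (0, 4, [])], 0),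
    ([7, 2, 8, 9, 1, 6, 8, 7, 2], [(3, [8, 6, 3, 5, 5, 4, 4, 5, 5, 7], [7, 5, 4, 5, 3, 6, 6, 6, 6, 6, 6, 6, 6, 6, 6, 6, 8, 8, 8, 8, 8, 8, 8, 8, 8, 8, 8]), (3, [8, 6, 1, 8, 8, 8, 8, 8, 8, 8, 8, 8, 8, 8, 9, 7], [7, 9, 8, 1, 6, 6, 6, 6, 6, 6, 6, 6, 6, 6, 6, 8, 8, 8, 8, 8, 8, 8, 8, 8, 8, 8]), (3, [8, 6, 3, 7, 6, 6, 6, 6, 6, 6, 6, 6, 6, 6, 6, 4, 4], [4, 6, 7, 3, 6, 6, 6, 6, 6, 6, 6, 6, 6, 6, 6, 8, 8, 8, 8, 8, 8, 8, 8, 8, 8, 8])], [(12, 1, [8, 8, 8, 8, 8, 8, 8, 8, 8, 8, 8, 3, 6, 6, 6, 6, 6, 6, 6, 6, 6, 6, 6]), (12, 1, [8, 8, 8, 8, 8, 8, 8, 8, 8, 8, 8, 3, 6, 6, 6, 6, 6, 6, 6, 6, 6, 6, 6]), (12, 1, [8, 8, 8, 8, 8, 8, 8, 8, 8, 8, 8, 3, 6, 6, 6, 6, 6, 6, 6, 6, 6,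 6, 6]), (0, 4, []), (0, 4, []), (0, 4, []), (0, 4, []), (0, 4, []), (0, 4, [])], 24576),
    ([9, 7, 4, 1, 8, 3, 8, 7, 8], [(3, [8, 6, 7, 6, 6, 6, 6, 6, 6, 6, 6, 6, 6], [6, 6, 7, 6, 6, 6, 6, 6, 6, 6, 6, 6, 6, 6, 8, 8, 8, 8, 8, 8, 8, 8, 8, 8, 8]), (3, [8, 6, 7, 8, 8, 8, 8, 8, 8, 8, 8, 8, 8, 5, 5], [5, 8, 8, 7, 6, 6, 6, 6, 6, 6, 6, 6, 6, 6, 6, 8, 8, 8, 8, 8, 8, 8, 8, 8, 8, 8]), (3, [8, 6, 5, 5, 7, 5, 5], [5, 7, 5, 6, 6, 6, 6, 6, 6, 6, 6, 6, 6, 6, 8, 8, 8, 8, 8, 8, 8, 8, 8, 8, 8])], [(4, 1, [6, 6, 6, 6, 6, 6, 6, 6, 6, 6, 6, 8, 8, 8, 8, 8, 8, 8, 8, 8, 8, 8, 3, 8, 8, 8, 8, 8, 8, 8, 8, 8, 8, 8, 7, 9]), (4, 1, [6, 6, 6, 6, 6, 6, 6, 6, 6, 6, 6, 8, 8, 8, 8, 8, 8,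 8, 8, 8, 8, 8, 3, 8, 8, 8, 8, 8, 8, 8, 8, 8, 8, 8, 7, 9]), (4, 1, [6, 6, 6, 6, 6, 6, 6, 6, 6, 6, 6, 8, 8, 8, 8, 8, 8, 8, 8, 8, 8, 8, 3, 8, 8, 8, 8, 8, 8, 8, 8, 8, 8, 8, 7, 9]), (0, 4, []), (0, 4, []), (0, 4, []), (0, 4, []), (0, 4, []), (0, 4, [])], 12288),
    ([9, 8, 3, 8, 2, 8, 3, 8, 7], [(3, [8, 6, 4, 4, 7, 6, 6, 6, 6, 6, 6, 6, 6, 6, 6, 6, 4, 4, 7], [7, 4, 6, 7, 4, 6, 6, 6, 6, 6, 6, 6, 6, 6, 6, 6, 8, 8, 8, 8, 8, 8, 8, 8, 8, 8, 8]), (3, [8, 6, 5, 5, 6, 6, 6, 6, 6, 6, 6, 6, 6, 6, 6, 7, 5, 5, 9], [9, 5, 7, 6, 5, 6, 6, 6, 6, 6, 6, 6, 6, 6, 6, 6, 8, 8, 8, 8, 8, 8, 8, 8, 8, 8, 8]), (3, [8, 6, 4, 4, 6, 6, 6, 6, 6, 6, 6, 6, 6, 6, 6, 7, 5, 5], [5, 7, 6, 4, 6,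 6, 6, 6, 6, 6, 6, 6, 6, 6, 6, 8, 8, 8, 8, 8, 8, 8, 8, 8, 8, 8])], [(10, 3, [8, 6, 0, 8, 8, 8, 8, 8, 8, 8, 8, 8, 8, 8, 4, 4, 7, 6, 6, 6, 6, 6, 6, 6, 6, 6, 6, 6]), (10, 3, [8, 6, 0, 5, 5, 8, 8, 8, 8, 8, 8, 8, 8, 8, 8, 8, 7, 3]), (10, 3, [8, 6, 0, 4, 4, 6, 6, 6, 6, 6, 6, 6, 6, 6, 6, 6, 8, 8, 8, 8, 8, 8, 8, 8, 8, 8, 8, 0]), (0, 4, []), (0, 4, []), (0, 4, []), (0, 4, []), (0, 4, []), (0, 4, [])], 0),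
    ([7, 6, 3, 8, 9, 2, 6], [(3, [8, 6, 2, 5, 5, 8, 8, 8, 8, 8, 8, 8, 8, 8, 8, 8, 7, 3], [3, 7, 8, 5, 2, 6, 6, 6, 6, 6, 6, 6, 6, 6, 6, 6, 8, 8, 8, 8, 8, 8, 8, 8, 8, 8, 8]), (3, [8, 6, 1, 8, 8, 8, 8, 8, 8, 8, 8, 8, 8, 8, 2, 8, 8, 8, 8, 8, 8, 8, 8, 8, 8, 8, 7], [7, 8, 2, 8, 1, 6, 6, 6, 6, 6, 6, 6, 6, 6, 6, 6, 8, 8, 8, 8, 8, 8, 8, 8, 8, 8, 8]), (3, [8, 6, 0, 6, 6, 6, 6, 6, 6, 6, 6, 6, 6, 6, 7, 8, 8, 8, 8, 8, 8, 8, 8, 8, 8, 8, 2], [2, 8, 7, 6, 0, 6, 6, 6, 6, 6, 6, 6, 6, 6, 6, 6, 8, 8, 8, 8, 8, 8, 8, 8, 8, 8, 8])], [(4, 1, [8, 8, 8, 8, 8, 8, 8, 8, 8, 8, 8, 3, 5, 5, 8, 8, 8, 8, 8, 8, 8, 8, 8, 8, 8, 2]), (4, 1, [8, 8, 8, 8, 8, 8, 8, 8, 8, 8, 8, 3, 5, 5, 8, 8, 8,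 8, 8, 8, 8, 8, 8, 8, 8, 2]), (4, 1, [8, 8, 8, 8, 8, 8, 8, 8, 8, 8, 8, 3, 5, 5, 8, 8, 8, 8, 8, 8, 8, 8, 8, 8, 8, 2]), (0, 4, []), (0, 4, []), (0, 4, []), (0, 4, []), (0, 4, []), (0, 4, [])], 0),
    ([7, 6, 8, 9, 6, 2, 1], [(3, [8, 6, 1, 7, 5, 5, 8, 8, 8, 8, 8, 8, 8, 8, 8, 8, 8, 5, 5, 2], [2, 5, 8, 5, 7, 1, 6, 6, 6, 6, 6, 6, 6, 6, 6, 6, 6, 8, 8, 8, 8, 8, 8, 8, 8, 8, 8, 8]), (3, [8, 6, 0, 5, 5, 6, 6, 6, 6, 6, 6, 6, 6, 6, 6, 6, 8, 8, 8, 8, 8, 8, 8, 8, 8, 8, 8, 0, 3], [3, 0, 8, 6, 5, 0, 6, 6, 6, 6, 6, 6, 6, 6, 6, 6, 6, 8, 8, 8, 8, 8, 8, 8, 8, 8, 8, 8]), (3, [8, 6, 0, 6, 6, 6, 6, 6, 6, 6, 6, 6, 6, 6, 7, 8, 8, 8, 8, 8, 8, 8, 8, 8, 8, 8, 0], [0, 8, 7, 6, 0, 6,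 6, 6, 6, 6, 6, 6, 6, 6, 6, 6, 8, 8, 8, 8, 8, 8, 8, 8, 8, 8, 8])], [(2, 3, [8, 6, 2, 8, 8, 8, 8, 8, 8, 8, 8, 8, 8, 8, 1, 4, 4, 7]), (2, 3, [8, 6, 0, 8, 8, 8, 8, 8, 8, 8, 8, 8, 8, 8, 6, 6, 6, 6, 6, 6, 6, 6, 6, 6, 6, 2, 9]), (2, 3, [8, 6, 0, 8, 8, 8, 8, 8, 8, 8, 8, 8, 8, 8, 3, 9, 6, 6, 6, 6, 6, 6, 6, 6, 6, 6, 6, 1]), (0, 4, []), (0, 4, []), (0, 4, []), (0, 4, []), (0, 4, []), (0, 4, [])], 0)]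

end Cfsg.Agent.Spor.JFour.OrderH
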